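import Cfsg.Agent.M12Cent.Facts
import Cfsg.Agent.Invol.ZStar
import Cfsg.Agent.Invol.Pair
import Cfsg.Agent.S0111

/-!
A group with an involution whose centralizer is the model: Sylow 2-subgroups and fusion.
-/

set_option autoImplicit false
set_option maxRecDepth 8000

namespace Cfsg.Agent.M12Cent

universe u

variable {G : Type u} [Group G]

/-- An embedding of the model onto the centralizer of `z`. -/
structure Emb (z : G) where
  ι : M →* G
  inj : Function.Injective ι
  range : ι.range = Subgroup.centralizer ({z} : Set G)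
  ι_z : ι M.zM = z

namespace Emb

variable {z : G} (h : Emb z)
include h

theorem mem_range {g : G} (hg : g * z = z * g) : ∃ x, h.ι x = g := by
  have : g ∈ h.ι.range := by rw [h.range]; exact Subgroup.mem_centralizer_singleton_iff.2 hg
  exact this

theorem comm_iff (x y : M) : h.ι x * h.ι y = h.ι y * h.ι x ↔ x * y = y * x := by
  rw [← map_mul, ← map_mul]
  exact h.inj.eq_iff

theorem comm (x : M) : h.ι x * z = z * h.ι x := by
  have e : h.ι x * h.ι M.zM = h.ι M.zM * h.ι x := (h.comm_iff x M.zM).2 (M.zM_central x)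
  rwa [h.ι_z] at e

theorem ord (x : M) (hx : M.ty x ≠ 0) : orderOf (h.ι x) = 2 := by
  rw [orderOf_injective h.ι h.inj]
  exact orderOf_eq_prime (by rw [pow_two]; exact ((M.ty_spec x).1.1 hx).1) ((M.ty_spec x).1.1 hx).2

theorem ty_ne_zero {x : M} (hx : orderOf (h.ι x) = 2) : M.ty x ≠ 0 := by
  rw [orderOf_injective h.ι h.inj] at hx
  refine (M.ty_spec x).1.2 ⟨?_, fun e => ?_⟩
  · rw [← pow_two, ← hx, pow_orderOf_eq_one]
  · rw [e, orderOf_one] at hx; omega

theorem hz : orderOf z = 2 := by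
  rw [← h.ι_z]; exact h.ord _ (by rw [M.ty_rep.1]; norm_num)

theorem lift {g : G} (hg : orderOf g = 2) (hgz : g * z = z * g) :
    ∃ x, M.ty x ≠ 0 ∧ h.ι x = g := by
  obtain ⟨x, rfl⟩ := h.mem_range hgz
  exact ⟨x, h.ty_ne_zero hg, rfl⟩

theorem conj_two {x : M} (hx : M.ty x = 2) : IsConj (h.ι M.aM) (h.ι x) := by
  obtain ⟨c, rfl⟩ := M.ty_two x hx
  exact isConj_iff.2 ⟨h.ι c, by rw [map_mul, map_mul, map_inv]⟩

theorem conj_three {x : M} (hx : M.ty x = 3) : IsConj (h.ι M.bM) (h.ι x) := by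
  obtain ⟨c, rfl⟩ := M.ty_three x hx
  exact isConj_iff.2 ⟨h.ι c, by rw [map_mul, map_mul, map_inv]⟩

theorem conj_four {x : M} (hx : M.ty x = 4) : IsConj (h.ι M.cM) (h.ι x) := by
  obtain ⟨c, rfl⟩ := M.ty_four x hx
  exact isConj_iff.2 ⟨h.ι c, by rw [map_mul, map_mul, map_inv]⟩

theorem card_cent : Nat.card ↥(Subgroup.centralizer ({z} : Set G)) = 192 := by
  rw [← h.range, ← Nat.card_congr (MonoidHom.ofInjective h.inj).toEquiv, M.card]

/-- The joint centralizer with an element of the image, counted in the model. -/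
theorem card_joint (x : M) :
    Nat.card {y : G // y * z = z * y ∧ y * h.ι x = h.ι x * y} =
      (Finset.univ.filter fun y : M => y * x = x * y).card := by
  rw [← Fintype.card_subtype, ← Nat.card_eq_fintype_card]
  refine (Nat.card_congr (Equiv.ofBijective
    (fun y : {y : M // y * x = x * y} =>
      (⟨h.ι y.1, h.comm y.1, (h.comm_iff _ _).2 y.2⟩ :
        {y : G // y * z = z * y ∧ y * h.ι x = h.ι x * y})) ⟨?_, ?_⟩)).symm
  · intro a b hab
    exact Subtype.ext (h.inj (congrArg Subtype.val hab))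
  · rintro ⟨y, hy1, hy2⟩
    obtain ⟨w, rfl⟩ := h.mem_range hy1
    exact ⟨⟨w, (h.comm_iff _ _).1 hy2⟩, rfl⟩

omit h in
/-- Conjugation transports joint centralizers. -/
theorem card_joint_conj (g p q : G) :
    Nat.card {y : G // y * (g * p * g⁻¹) = g * p * g⁻¹ * y ∧ y * (g * q * g⁻¹) = g * q * g⁻¹ * y} =
      Nat.card {y : G // y * p = p * y ∧ y * q = q * y} := by
  have key : ∀ y w : G, (g * y * g⁻¹) * (g * w * g⁻¹) = g * w * g⁻¹ * (g * y * g⁻¹) ↔ y * w = w * y := by
    intro y w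
    rw [show g * y * g⁻¹ * (g * w * g⁻¹) = g * (y * w) * g⁻¹ by group,
      show g * w * g⁻¹ * (g * y * g⁻¹) = g * (w * y) * g⁻¹ by group]
    exact ⟨fun e => mul_left_cancel (mul_right_cancel e), fun e => by rw [e]⟩
  refine (Nat.card_congr ((MulAut.conj g).toEquiv.subtypeEquiv fun y => ?_)).symm
  exact and_congr (key y p).symm (key y q).symm

omit h in
theorem card_joint_comm (p q : G) :
    Nat.card {y : G // y * p = p * y ∧ y * q = q * y} =
      Nat.card {y : G // y * q = q * y ∧ y * p = p * y} :=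
  Nat.card_congr (Equiv.subtypeEquivRight fun _ => and_comm)

/-- The kind is determined by the order of the joint centralizer. -/
theorem ty_of_card {x : M} (hx : M.ty x ≠ 0) :
    (Nat.card {y : G // y * z = z * y ∧ y * h.ι x = h.ι x * y} = 32 → M.ty x = 2) ∧
    (Nat.card {y : G // y * z = z * y ∧ y * h.ι x = h.ι x * y} = 16 → M.ty x = 3) ∧
    (Nat.card {y : G // y * z = z * y ∧ y * h.ι x = h.ι x * y} = 8 → M.ty x = 4) := by
  rw [h.card_joint]
  have hh : ∀ x : M, M.ty x ≠ 0 →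
      ((Finset.univ.filter fun y : M => y * x = x * y).card = 32 → M.ty x = 2) ∧
      ((Finset.univ.filter fun y : M => y * x = x * y).card = 16 → M.ty x = 3) ∧
      ((Finset.univ.filter fun y : M => y * x = x * y).card = 8 → M.ty x = 4) := by decide +kernel
  exact hh x hx

/-- If `g` takes `ι x` to `z`, then `z` is taken to an involution with as large a centralizer. -/
theorem partner {x : M} {g : G} (hg : g * h.ι x * g⁻¹ = z) :
    ∃ y : M, M.ty y ≠ 0 ∧ h.ι y = g * z * g⁻¹ ∧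
      Nat.card {w : G // w * z = z * w ∧ w * h.ι y = h.ι y * w} =
        (Finset.univ.filter fun w : M => w * x = x * w).card := by
  have hc : g * z * g⁻¹ * z = z * (g * z * g⁻¹) := by
    conv_lhs => arg 2; rw [← hg]
    conv_rhs => arg 1; rw [← hg]
    rw [show g * z * g⁻¹ * (g * h.ι x * g⁻¹) = g * (z * h.ι x) * g⁻¹ by group,
      show g * h.ι x * g⁻¹ * (g * z * g⁻¹) = g * (h.ι x * z) * g⁻¹ by group, h.comm x]
  obtain ⟨y, hy, hyg⟩ := h.lift (by rw [Invol.orderOf_conj, h.hz]) hc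
  refine ⟨y, hy, hyg, ?_⟩
  rw [hyg, ← h.card_joint x]
  have e := card_joint_conj g (h.ι x) z
  rw [hg] at e
  rw [e, card_joint_comm]

/-- The image of the chosen Sylow 2-subgroup of the model. -/
def sylSub : Subgroup G where
  carrier := {g | ∃ x, M.inS x = true ∧ h.ι x = g}
  mul_mem' := by
    rintro _ _ ⟨x, hx, rfl⟩ ⟨y, hy, rfl⟩
    exact ⟨x * y, M.inS_spec.2.2.1 x y hx hy, map_mul _ _ _⟩
  one_mem' := ⟨1, M.inS_spec.1, map_one _⟩
  inv_mem' := by
    rintro _ ⟨x, hx, rfl⟩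
    have hh : ∀ y : M, M.inS y = true → M.inS y⁻¹ = true := by decide +kernel
    exact ⟨x⁻¹, hh x hx, map_inv _ _⟩

theorem card_sylSub : Nat.card h.sylSub = 64 := by
  rw [← M.inS_spec.2.2.2, ← Fintype.card_subtype, ← Nat.card_eq_fintype_card]
  refine (Nat.card_congr (Equiv.ofBijective
    (fun x : {x : M // M.inS x = true} => (⟨h.ι x.1, x.1, x.2, rfl⟩ : h.sylSub)) ⟨?_, ?_⟩)).symm
  · intro a b hab
    exact Subtype.ext (h.inj (congrArg Subtype.val hab))
  · rintro ⟨_, x, hx, rfl⟩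
    exact ⟨⟨x, hx⟩, rfl⟩

variable [Finite G]

/-- The image of the Sylow 2-subgroup of the model is one of the group. -/
theorem exists_sylow : ∃ S : Sylow 2 G, (S : Subgroup G) = h.sylSub := by
  haveI : Fact (Nat.Prime 2) := ⟨Nat.prime_two⟩
  obtain ⟨P, hP⟩ := (IsPGroup.of_card (p := 2) (n := 6) (by rw [h.card_sylSub]; norm_num) :
    IsPGroup 2 h.sylSub).exists_le_sylow
  refine ⟨P, le_antisymm ?_ hP⟩
  by_contra hne
  set H := h.sylSub.subgroupOf (P : Subgroup G)
  have hH : H < ⊤ := lt_top_iff_ne_top.2 fun e => hne (Subgroup.subgroupOf_eq_top.1 e)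
  haveI := P.2.isNilpotent
  have hlt := Group.normalizerCondition_of_isNilpotent (G := ↥(P : Subgroup G)) H hH
  obtain ⟨n, hn, hnH⟩ := SetLike.exists_of_lt hlt
  -- `n` normalises the image, so centralises its centre
  have hnorm := Subgroup.mem_normalizer_iff.1 hn
  have hconj : ∀ s ∈ h.sylSub, (n : G) * s * (n : G)⁻¹ ∈ h.sylSub := by
    intro s hs
    have := (hnorm ⟨s, hP hs⟩).1 (Subgroup.mem_subgroupOf.2 hs)
    exact Subgroup.mem_subgroupOf.1 this
  have hconj' : ∀ s ∈ h.sylSub, (n : G)⁻¹ * s * (n : G) ∈ h.sylSub := by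
    intro s hs
    have hm : (⟨(n : G)⁻¹ * s * (n : G), mul_mem (mul_mem (inv_mem n.2) (hP hs)) n.2⟩ :
        ↥(P : Subgroup G)) ∈ H := by
      refine (hnorm _).2 (Subgroup.mem_subgroupOf.2 ?_)
      simpa [mul_assoc] using hs
    exact Subgroup.mem_subgroupOf.1 hm
  have hzS : z ∈ h.sylSub := ⟨M.zM, M.inS_spec.2.1, h.ι_z⟩
  obtain ⟨x, hxS, hx⟩ := hconj z hzS
  have hx1 : x ≠ 1 := by
    rintro rfl
    rw [map_one, eq_comm, conj_eq_one_iff] at hx
    have := h.hz
    rw [hx, orderOf_one] at this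
    omega
  have hxz : x = M.zM := by
    refine (M.inS_center x hxS fun y hy => h.inj ?_).resolve_left hx1
    obtain ⟨w, hw, hwe⟩ := hconj' (h.ι y) ⟨y, hy, rfl⟩
    have hc := h.comm w
    rw [map_mul, map_mul, hx]
    calc (n : G) * z * (n : G)⁻¹ * h.ι y
        = (n : G) * (z * ((n : G)⁻¹ * h.ι y * n)) * (n : G)⁻¹ := by group
      _ = (n : G) * (((n : G)⁻¹ * h.ι y * n) * z) * (n : G)⁻¹ := by rw [← hwe, hc]
      _ = h.ι y * ((n : G) * z * (n : G)⁻¹) := by group
  rw [hxz, h.ι_z] at hx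
  have hnC : (n : G) ∈ Subgroup.centralizer ({z} : Set G) :=
    Subgroup.mem_centralizer_singleton_iff.2 (mul_inv_eq_iff_eq_mul.1 hx.symm)
  have hle : h.sylSub ≤ (P : Subgroup G) ⊓ Subgroup.centralizer ({z} : Set G) := by
    refine le_inf hP ?_
    rintro _ ⟨y, -, rfl⟩
    exact Subgroup.mem_centralizer_singleton_iff.2 (h.comm y)
  obtain ⟨k, hk⟩ := IsPGroup.iff_card.1 (P.2.to_le (inf_le_left : (P : Subgroup G) ⊓
    Subgroup.centralizer ({z} : Set G) ≤ P))
  have hdvd := Subgroup.card_dvd_of_le (inf_le_right : (P : Subgroup G) ⊓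
    Subgroup.centralizer ({z} : Set G) ≤ Subgroup.centralizer ({z} : Set G))
  rw [hk, h.card_cent] at hdvd
  have hk6 : k ≤ 6 := by
    by_contra hk'
    have : 2 ^ 7 ∣ 192 := dvd_trans (pow_dvd_pow 2 (by omega : 7 ≤ k)) hdvd
    norm_num at this
  have heq := Subgroup.eq_of_le_of_card_ge hle (by
    rw [hk, h.card_sylSub]
    exact (Nat.pow_le_pow_right (by norm_num) hk6).trans (by norm_num))
  exact hnH (Subgroup.mem_subgroupOf.2 (heq ▸ ⟨n.2, hnC⟩))

/-- Every involution is conjugate to one of the image. -/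
theorem conj_into {g : G} (hg : orderOf g = 2) :
    ∃ x, M.ty x ≠ 0 ∧ M.inS x = true ∧ IsConj g (h.ι x) := by
  haveI : Fact (Nat.Prime 2) := ⟨Nat.prime_two⟩
  obtain ⟨S, hS⟩ := h.exists_sylow
  obtain ⟨P, hP⟩ := (IsPGroup.of_card (p := 2) (n := 1) (by rw [Nat.card_zpowers, hg, pow_one]) :
    IsPGroup 2 (Subgroup.zpowers g)).exists_le_sylow
  obtain ⟨c, hc⟩ := MulAction.exists_smul_eq G P S
  have : c * g * c⁻¹ ∈ h.sylSub := by
    rw [← hS, ← hc, Sylow.coe_subgroup_smul]
    exact Subgroup.smul_mem_pointwise_smul g (MulAut.conj c) _ (hP (Subgroup.mem_zpowers g))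
  obtain ⟨x, hx, hxe⟩ := this
  refine ⟨x, h.ty_ne_zero ?_, hx, isConj_iff.2 ⟨c, hxe.symm⟩⟩
  rw [hxe, Invol.orderOf_conj, hg]

end Emb

end Cfsg.Agent.M12Cent
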