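import Cfsg.Agent.M12Cent.CentB
import Cfsg.Agent.SmallOrder.Below6000

/-!
The second fusion pattern gives a group of order 1344, so does not occur.
-/

set_option autoImplicit false
set_option maxRecDepth 8000

namespace Cfsg.Agent.M12Cent

universe u

/-- A four-group, all of whose involutions act without fixed points, forces a trivial odd core. -/
theorem oddCore_bot_of_fpf {L : Type*} [Group L] [Finite L] {z t : L} (hz : orderOf z = 2)
    (ht : orderOf t = 2) (hzt : orderOf (z * t) = 2)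
    (hfix : ∀ s : L, s = z ∨ s = t ∨ s = z * t → ∀ x : L, ¬ 2 ∣ orderOf x → x * s = s * x → x = 1) :
    Cfsg.oddCore L = ⊥ := by
  classical
  set O := Cfsg.oddCore L
  haveI : Fact (Nat.Prime 2) := ⟨Nat.prime_two⟩
  have hodd : ¬ 2 ∣ Nat.card O := Core.not_dvd_card_pPrimeCore (p := 2) (G := L)
  have hinv : ∀ s : L, s = z ∨ s = t ∨ s = z * t → ∀ x ∈ O, s * x * s⁻¹ = x⁻¹ := by
    intro s hs
    have hs2 : orderOf s = 2 := by rcases hs with rfl | rfl | rfl <;> assumption
    let φ : O →* O :=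
      { toFun := fun x => ⟨s * x * s⁻¹, (inferInstance : O.Normal).conj_mem _ x.2 s⟩
        map_one' := Subtype.ext (by simp)
        map_mul' := fun x y => Subtype.ext (by simp [mul_assoc]) }
    have hfp : MonoidHom.FixedPointFree φ := by
      intro x hx
      have hx' : s * (x : L) * s⁻¹ = x := congrArg Subtype.val hx
      refine Subtype.ext (hfix s hs x.1 (fun hd => hodd (hd.trans (Subgroup.orderOf_dvd_natCard O x.2))) ?_)
      exact (mul_inv_eq_iff_eq_mul.1 hx').symm
    have h2 : Function.Involutive φ := fun x => Subtype.ext (by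
      show s * (s * x * s⁻¹) * s⁻¹ = (x : L)
      rw [Invol.inv_eq_self hs2, show s * (s * x * s) * s = (s * s) * x * (s * s) by group,
        Invol.mul_self_eq_one hs2, one_mul, mul_one])
    intro x hx
    exact congrArg Subtype.val
      (congrFun (MonoidHom.FixedPointFree.coe_eq_inv_of_involutive hfp h2) ⟨x, hx⟩)
  refine (Subgroup.eq_bot_iff_forall _).2 fun x hx => ?_
  have a1 := hinv z (Or.inl rfl) x hx
  have a2 := hinv t (Or.inr (Or.inl rfl)) x hx
  have a3 := hinv (z * t) (Or.inr (Or.inr rfl)) x hx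
  rw [show z * t * x * (z * t)⁻¹ = z * (t * x * t⁻¹) * z⁻¹ by group, a2,
    show z * x⁻¹ * z⁻¹ = (z * x * z⁻¹)⁻¹ by group, a1, inv_inv] at a3
  have hsq : x ^ 2 = 1 := by
    rw [sq]; nth_rewrite 2 [a3]; exact mul_inv_cancel x
  rcases (Nat.dvd_prime Nat.prime_two).1 (orderOf_dvd_of_pow_eq_one hsq) with e | e
  · exact orderOf_eq_one_iff.1 e
  · exact absurd (e ▸ Subgroup.orderOf_dvd_natCard O hx) hodd

variable {G : Type u} [Group G] [Finite G] [IsSimpleGroup G]

namespace Emb

variable {z : G} (h : Emb z) (hna : ¬ IsMulCommutative G)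
include h hna

/-- In the second case the centralizer of `b` lies in the centralizer of `z`. -/
theorem cent_two (hII : IsConj (h.ι M.bM) (h.ι M.cM)) {l : G}
    (hl : l * h.ι M.bM = h.ι M.bM * l) : l * z = z * l := by
  set L := Subgroup.centralizer ({h.ι M.bM} : Set G)
  let z' : L := h.jW ⟨M.zM, Subgroup.mem_centralizer_singleton_iff.2 (M.zM_central M.bM).symm⟩
  let a' : L := h.jW ⟨M.aM, Subgroup.mem_centralizer_singleton_iff.2 M.bM_aM.symm⟩
  have hz'v : (z' : G) = z := h.ι_z
  have hz' : orderOf z' = 2 := by rw [← Subgroup.orderOf_coe, hz'v, h.hz]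
  have ha' : orderOf a' = 2 := by
    rw [← Subgroup.orderOf_coe]
    show orderOf (h.ι M.aM) = 2
    exact h.ord _ (by rw [M.ty_rep.2.1]; norm_num)
  have hza' : orderOf (z' * a') = 2 := by
    rw [← Subgroup.orderOf_coe, Subgroup.coe_mul, hz'v]
    show orderOf (z * h.ι M.aM) = 2
    rw [← h.za, ← h.ι_az]
    exact h.ord _ (by rw [M.ty_rep.2.2.2.2]; norm_num)
  have hiso : Cfsg.IsIsolatedInvolution z' := by
    refine ⟨hz', fun g hcomm => Subtype.ext ?_⟩
    have e : ((g * z' * g⁻¹ : L) : G) = (g : G) * z * (g : G)⁻¹ := by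
      rw [Subgroup.coe_mul, Subgroup.coe_mul, Subgroup.coe_inv, hz'v]
    rw [e, hz'v]
    have hc : (g : G) * z * (g : G)⁻¹ * z = z * ((g : G) * z * (g : G)⁻¹) := by
      have := congrArg Subtype.val hcomm.eq
      simp only [Subgroup.coe_mul, Subgroup.coe_inv, hz'v] at this
      exact this.symm
    obtain ⟨x, hx, hxe⟩ := h.lift (by rw [Invol.orderOf_conj, h.hz]) hc
    have hgb := Subgroup.mem_centralizer_singleton_iff.1 g.2
    have hxb : x * M.bM = M.bM * x := by
      refine (h.comm_iff _ _).1 ?_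
      rw [hxe]
      calc (g : G) * z * (g : G)⁻¹ * h.ι M.bM
          = (g : G) * (z * ((g : G)⁻¹ * (h.ι M.bM * g))) * (g : G)⁻¹ := by group
        _ = (g : G) * (z * h.ι M.bM) * (g : G)⁻¹ := by rw [← hgb, inv_mul_cancel_left]
        _ = ((g : G) * h.ι M.bM) * z * (g : G)⁻¹ := by rw [← h.comm M.bM]; group
        _ = (h.ι M.bM * g) * z * (g : G)⁻¹ := by rw [hgb]
        _ = h.ι M.bM * ((g : G) * z * (g : G)⁻¹) := by group
    have hgb' : (g : G) * h.ι M.bM * (g : G)⁻¹ = h.ι M.bM := by rw [hgb, mul_inv_cancel_right]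
    rcases h.zclass_W hna hx hxb (isConj_iff.2 ⟨g, hxe.symm⟩) with e | e | e
    · rw [← hxe, e, h.ι_z]
    · rw [e] at hxe
      exact absurd hxe.symm (h.closed_two hna hII hgb')
    · exfalso
      rw [e, h.ι_az] at hxe
      obtain ⟨w, hwb, hwa⟩ := M.swap_W
      have hwb' : h.ι w * h.ι M.bM * (h.ι w)⁻¹ = h.ι M.bM := by
        rw [(h.comm_iff _ _).2 hwb, mul_inv_cancel_right]
      have hwa' : h.ι w * h.ι M.aM * (h.ι w)⁻¹ = h.ι M.aM * z := by
        rw [← h.ι_az, ← hwa, map_mul, map_mul, map_inv]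
      have hwz : h.ι w * z * (h.ι w)⁻¹ = z := by rw [h.comm w, mul_inv_cancel_right]
      refine h.closed_two hna hII (l := h.ι w * g) ?_ ?_
      · rw [show h.ι w * (g : G) * h.ι M.bM * (h.ι w * (g : G))⁻¹ =
          h.ι w * ((g : G) * h.ι M.bM * (g : G)⁻¹) * (h.ι w)⁻¹ by group, hgb', hwb']
      · rw [show h.ι w * (g : G) * z * (h.ι w * (g : G))⁻¹ =
          h.ι w * ((g : G) * z * (g : G)⁻¹) * (h.ι w)⁻¹ by group, ← hxe,
          show h.ι w * (h.ι M.aM * z) * (h.ι w)⁻¹ =
            (h.ι w * h.ι M.aM * (h.ι w)⁻¹) * (h.ι w * z * (h.ι w)⁻¹) by group, hwa', hwz, mul_assoc,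
          Invol.mul_self_eq_one h.hz, mul_one]
  have hO : Cfsg.oddCore L = ⊥ := by
    refine oddCore_bot_of_fpf hz' ha' hza' fun s hs x hx hxs => Subtype.ext ?_
    rw [← Subgroup.orderOf_coe] at hx
    have hxs' := congrArg Subtype.val hxs
    rw [Subgroup.coe_mul, Subgroup.coe_mul] at hxs'
    have hsz : IsConj z (s : G) := by
      rcases hs with rfl | rfl | rfl
      · rw [hz'v]
      · exact h.conj_a hna
      · rw [Subgroup.coe_mul, hz'v]
        show IsConj z (z * h.ι M.aM)
        rw [← h.za, ← h.ι_az]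
        exact (h.conj_a hna).trans (h.conj_two M.ty_rep.2.2.2.2)
    exact h.odd_fixed_trivial hna hsz (IsConj.refl _)
      (Subgroup.mem_centralizer_singleton_iff.1 s.2).symm hxs'
      (Subgroup.mem_centralizer_singleton_iff.1 x.2) hx
  have h1 := Invol.zstar hiso ⟨l, Subgroup.mem_centralizer_singleton_iff.2 hl⟩
  rw [hO, Subgroup.mem_bot, mul_inv_eq_one, mul_inv_eq_iff_eq_mul] at h1
  have := congrArg Subtype.val h1
  rw [Subgroup.coe_mul, Subgroup.coe_mul, hz'v] at this
  exact this.symm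

theorem card_two (hII : IsConj (h.ι M.bM) (h.ι M.cM)) : Nat.card G = 1344 := by
  classical
  have hL : Nat.card (Subgroup.centralizer ({h.ι M.bM} : Set G)) = 16 := by
    have htop : h.jW.range = ⊤ := eq_top_iff.2 fun l _ =>
      h.mem_jW.2 (h.cent_two hna hII (Subgroup.mem_centralizer_singleton_iff.1 l.2))
    rw [← h.card_jW, htop, Subgroup.card_top]
  have hcls : ∀ x : M, ((IsConj z (h.ι x)) ↔ M.zTwo x = true) ∧
      ((IsConj (h.ι M.bM) (h.ι x)) ↔ M.bTwo x = true) := by
    intro x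
    by_cases hx : M.ty x = 0
    · refine ⟨iff_of_false (fun hc => h.ty_ne_zero (Invol.orderOf_eq_two_of_isConj hc h.hz) hx) ?_,
        iff_of_false (fun hc => h.ty_ne_zero (Invol.orderOf_eq_two_of_isConj hc h.hb) hx) ?_⟩ <;>
      simp [M.zTwo, M.bTwo, hx]
    · exact h.class_two hna hII hx
  have hz : Nat.card {q : G × G // IsConj z q.1 ∧ IsConj (h.ι M.bM) q.2 ∧
      z ∈ Subgroup.zpowers (q.1 * q.2)} = 48 := by
    rw [card_pairs h.ι h.inj h.ι_z (fun g hg => h.mem_range hg) h.hz h.hz h.hb, ← M.pairs_two,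
      M.pairs, ← Fintype.card_subtype, ← Nat.card_eq_fintype_card]
    refine Nat.card_congr (Equiv.subtypeEquivRight fun q => ?_)
    simp only [(hcls q.1).1, (hcls q.2).2, h.comm, and_true, Bool.and_eq_true, M.hit_iff, and_assoc]
  have hb : Nat.card {q : G × G // IsConj z q.1 ∧ IsConj (h.ι M.bM) q.2 ∧
      h.ι M.bM ∈ Subgroup.zpowers (q.1 * q.2)} = 3 := by
    rw [card_pairs h.ι h.inj (w' := M.bM) rfl
      (fun g hg => h.mem_range (h.cent_two hna hII hg)) h.hb h.hz h.hb, ← M.pairs_W,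
      M.pairs, ← Fintype.card_subtype, ← Nat.card_eq_fintype_card]
    refine Nat.card_congr (Equiv.subtypeEquivRight fun q => ?_)
    simp only [(hcls q.1).1, (hcls q.2).2, h.comm_iff, M.zW, M.bW, Bool.and_eq_true,
      decide_eq_true_eq, M.hit_iff, and_assoc]
  rw [h.order_formula hna, hL, hz, hb]

/-- The first pattern of fusion holds. -/
theorem caseOne : IsConj z (h.ι M.cM) := by
  rcases h.cases hna with hI | hII
  · exact hI
  · exfalso
    have hc := h.card_two hna hII
    have := SmallOrder.card_of_lt_6000 hna (by omega)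
    rw [hc] at this
    simp at this

end Emb

end Cfsg.Agent.M12Cent
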