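import Cfsg.Agent.M12Cent.Facts
import Cfsg.Agent.Compute.Mathieu
import Cfsg.Agent.Compute.ListSubgroup
import Cfsg.Prelude.Def_SporadicB
import Cfsg.Agent.Char.Ortho

/-!
The centralizer of a 2-central involution of the Mathieu group of degree twelve is the model.
-/

set_option autoImplicit false
set_option maxRecDepth 8000

namespace Cfsg.Agent.M12Cent

open Cfsg Cfsg.Agent.Compute

/-- The checks on the embedding and on the list of conjugates. -/
theorem host_checks :
    allBelow 192 (fun i => Nat.beq (rep24.sift m12Chain (codeTab.getD i rep24.one)) rep24.one) = true ∧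
    (conjTab.all fun p => rep24.okb p.1 && rep24.okb p.2 &&
      Nat.beq (rep24.sift m12Chain p.1) rep24.one && Nat.beq (rep24.sift m12Chain p.2) rep24.one &&
      Nat.beq (rep24.mul p.2 (M.code M.zM)) (rep24.mul p.1 p.2) &&
      Nat.beq (rep24.mul p.1 rep24.one) p.1) = true ∧
    conjTab.length = 495 := by decide +kernel

theorem conjTab_nodup : (conjTab.map Prod.fst).Pairwise (· < ·) := by decide +kernel

theorem img_mem (x : M) : M.imgHom x ∈ Spor.M12 := by
  rw [sporM12_eq]
  have h := allBelow_eq_true.1 host_checks.1 x.v.1 x.v.2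
  exact Rep.mem_of_sift rep24 _ m12_check (M.code_ok x) (Nat.eq_of_beq_eq_true h)

/-- The embedding into the Mathieu group. -/
noncomputable def emb : M →* ↥Spor.M12 := M.imgHom.codRestrict Spor.M12 img_mem

theorem emb_injective : Function.Injective emb := fun x y h =>
  M.img_injective (congrArg Subtype.val h)

theorem finite_m12 : Finite Spor.M12 :=
  Nat.finite_of_card_ne_zero (by rw [card_m12]; norm_num)

theorem pack_congr (w n : ℕ) {f g : ℕ → ℕ} (h : ∀ i, i < n → f i = g i) :
    pack w n f = pack w n g := by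
  induction n with
  | zero => rfl
  | succ k ih => rw [pack_succ, pack_succ, ih (fun i hi => h i (by omega)), h k (by omega)]
theorem mul_one_act {a b : ℕ} (h : ∀ i, i < 24 → getField 5 a i = getField 5 b i) :
    compCode 5 24 a (idCode 5 24) = compCode 5 24 b (idCode 5 24) := by
  refine pack_congr 5 24 (f := fun i => getField 5 a (getField 5 (idCode 5 24) i)) (g := fun i => getField 5 b (getField 5 (idCode 5 24) i)) ?_
  intro i hi
  rw [getField_idCode (w := 5) (n := 24) (by norm_num) hi]
  exact h i hi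
theorem act_eq (a i : ℕ) : rep24.act a i = getField 5 a i := by simp only [rep24, permRep]
theorem one_eq : rep24.one = idCode 5 24 := by simp only [rep24, permRep]
theorem mul_eq (a b : ℕ) : rep24.mul a b = compCode 5 24 a b := by simp only [rep24, permRep]
theorem code_eq_of_den {a b : ℕ} (ha : rep24.Ok a) (hb : rep24.Ok b)
    (ca : rep24.mul a rep24.one = a) (cb : rep24.mul b rep24.one = b)
    (h : rep24.den a = rep24.den b) : a = b := by
  have hact := allBelow_eq_true.1 (den_inj_of_act ha hb h)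
  rw [mul_eq, one_eq] at ca cb
  refine ca.symm.trans ((mul_one_act fun i hi => ?_).trans cb)
  have h1 := Nat.eq_of_beq_eq_true (hact i hi)
  rwa [act_eq, act_eq] at h1

theorem card_class_ge : 495 ≤ Nat.card {x : ↥Spor.M12 // IsConj (emb M.zM) x} := by
  haveI := finite_m12
  obtain ⟨-, hall, hlen⟩ := host_checks
  have key : ∀ i : Fin conjTab.length, rep24.Ok conjTab[i].1 ∧ rep24.Ok conjTab[i].2 ∧
      rep24.den conjTab[i].1 ∈ Spor.M12 ∧ rep24.den conjTab[i].2 ∈ Spor.M12 ∧
      rep24.den conjTab[i].2 * M.img M.zM = rep24.den conjTab[i].1 * rep24.den conjTab[i].2 ∧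
      rep24.mul conjTab[i].1 rep24.one = conjTab[i].1 := by
    intro i
    have h := List.all_eq_true.1 hall _ (List.getElem_mem i.2)
    simp only [Bool.and_eq_true, Nat.beq_eq] at h
    obtain ⟨⟨⟨⟨⟨o1, o2⟩, s1⟩, s2⟩, hc⟩, hcan⟩ := h
    have O1 := rep24.okb_sound _ o1
    have O2 := rep24.okb_sound _ o2
    refine ⟨O1, O2, ?_, ?_, ?_, hcan⟩
    · rw [sporM12_eq]; exact Rep.mem_of_sift rep24 _ m12_check O1 s1
    · rw [sporM12_eq]; exact Rep.mem_of_sift rep24 _ m12_check O2 s2
    · have := congrArg rep24.den hc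
      rwa [rep24.den_mul _ _ O2 (M.code_ok _), rep24.den_mul _ _ O1 O2] at this
  let f : Fin conjTab.length → {x : ↥Spor.M12 // IsConj (emb M.zM) x} := fun i =>
    ⟨⟨rep24.den conjTab[i].1, (key i).2.2.1⟩, isConj_iff.2 ⟨⟨rep24.den conjTab[i].2, (key i).2.2.2.1⟩,
      Subtype.ext (by
        show rep24.den conjTab[i].2 * M.img M.zM * (rep24.den conjTab[i].2)⁻¹ = _
        exact mul_inv_eq_iff_eq_mul.2 (key i).2.2.2.2.1)⟩⟩
  have hf : Function.Injective f := by
    intro i j h
    have h' : conjTab[i].1 = conjTab[j].1 := code_eq_of_den (key i).1 (key j).1 (key i).2.2.2.2.2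
      (key j).2.2.2.2.2 (congrArg (fun x => ((x.1 : ↥Spor.M12) : Equiv.Perm GolayPt)) h)
    have hnd : (conjTab.map Prod.fst).Nodup := conjTab_nodup.imp fun h => Nat.ne_of_lt h
    have := (hnd.getElem_inj_iff (i := i.1) (j := j.1) (hi := by simp) (hj := by simp)).1
      (by simpa using h')
    exact Fin.ext this
  calc 495 = Nat.card (Fin conjTab.length) := by rw [Nat.card_fin, hlen]
    _ ≤ _ := Nat.card_le_card_of_injective f hf

/-- The centralizer of a 2-central involution is isomorphic to the model. -/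
theorem exists_model {u : ↥Spor.M12} (hu : IsTwoCentralInvolution u) :
    ∃ e : M ≃* ↥(Subgroup.centralizer ({u} : Set ↥Spor.M12)), (e M.zM : ↥Spor.M12) = u := by
  classical
  haveI := finite_m12
  haveI : Fact (Nat.Prime 2) := ⟨Nat.prime_two⟩
  obtain ⟨hu2, P, huP, hcP⟩ := hu
  let SM : Subgroup M :=
    { carrier := {x | M.inS x = true}
      mul_mem' := fun hx hy => M.inS_spec.2.2.1 _ _ hx hy
      one_mem' := M.inS_spec.1
      inv_mem' := fun {x} hx => by
        have h : ∀ y : M, M.inS y = true → M.inS y⁻¹ = true := by decide +kernel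
        exact h x hx }
  set S0 := SM.map emb
  have h64 : Nat.card S0 = 64 := by
    rw [← Nat.card_congr (SM.equivMapOfInjective emb emb_injective).toEquiv,
      ← M.inS_spec.2.2.2, ← Fintype.card_subtype, ← Nat.card_eq_fintype_card]
    rfl
  obtain ⟨T, hT⟩ := (IsPGroup.of_card (p := 2) (n := 6) (by rw [h64]; norm_num) :
    IsPGroup 2 S0).exists_le_sylow
  have hT64 : Nat.card T = 64 := by
    rw [T.card_eq_multiplicity, card_m12]
    decide +kernel
  have hTS : (T : Subgroup ↥Spor.M12) = S0 :=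
    (Subgroup.eq_of_le_of_card_ge hT (by rw [h64]; exact hT64.le)).symm
  obtain ⟨g, hg⟩ := MulAction.exists_smul_eq ↥Spor.M12 P T
  have hconj : ∀ x ∈ (P : Subgroup ↥Spor.M12), g * x * g⁻¹ ∈ S0 := by
    intro x hx
    rw [← hTS, ← hg, Sylow.coe_subgroup_smul]
    exact Subgroup.smul_mem_pointwise_smul x (MulAut.conj g) _ hx
  obtain ⟨y, hyS, hy⟩ := Subgroup.mem_map.1 (hconj u huP)
  have hsurj : ∀ s ∈ S0, g⁻¹ * s * g ∈ (P : Subgroup ↥Spor.M12) := by
    intro s hs
    rw [← hTS, ← hg, Sylow.coe_subgroup_smul, Subgroup.mem_pointwise_smul_iff_inv_smul_mem] at hs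
    simpa [MulAut.smul_def] using hs
  have hy1 : y ≠ 1 := by
    rintro rfl
    rw [map_one, eq_comm, conj_eq_one_iff] at hy
    rw [hy, orderOf_one] at hu2
    omega
  have hyz : y = M.zM := by
    refine (M.inS_center y hyS fun w hw => emb_injective ?_).resolve_left hy1
    have h := hcP _ (hsurj _ (Subgroup.mem_map_of_mem emb (show w ∈ SM from hw)))
    rw [map_mul, map_mul, hy]
    calc g * u * g⁻¹ * emb w = g * (u * (g⁻¹ * emb w * g)) * g⁻¹ := by group
      _ = g * ((g⁻¹ * emb w * g) * u) * g⁻¹ := by rw [h]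
      _ = emb w * (g * u * g⁻¹) := by group
  subst hyz
  have hcard : Nat.card ↥(Subgroup.centralizer ({u} : Set ↥Spor.M12)) ≤ 192 := by
    have h1 := card_class_ge
    have h2 : Nat.card {x : ↥Spor.M12 // IsConj u x} = Nat.card {x : ↥Spor.M12 // IsConj (emb M.zM) x} := by
      refine Nat.card_congr (Equiv.subtypeEquivRight fun x => ?_)
      have hc : IsConj u (emb M.zM) := isConj_iff.2 ⟨g, hy.symm⟩
      exact ⟨fun h => hc.symm.trans h, fun h => hc.trans h⟩
    rw [← h2, Char.card_isConj_eq_index] at h1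
    have h3 := (Subgroup.centralizer ({u} : Set ↥Spor.M12)).card_mul_index
    rw [card_m12] at h3
    nlinarith
  let f : M →* ↥(Subgroup.centralizer ({u} : Set ↥Spor.M12)) :=
    ((MulAut.conj g⁻¹).toMonoidHom.comp emb).codRestrict _ fun x => by
      rw [Subgroup.mem_centralizer_singleton_iff]
      have hz : emb x * (g * u * g⁻¹) = (g * u * g⁻¹) * emb x := by
        rw [← hy, ← map_mul, ← map_mul, M.zM_central]
      show g⁻¹ * emb x * g⁻¹⁻¹ * u = u * (g⁻¹ * emb x * g⁻¹⁻¹)
      calc g⁻¹ * emb x * g⁻¹⁻¹ * u = g⁻¹ * (emb x * (g * u * g⁻¹)) * g := by group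
        _ = g⁻¹ * ((g * u * g⁻¹) * emb x) * g := by rw [hz]
        _ = u * (g⁻¹ * emb x * g⁻¹⁻¹) := by group
  have hf : Function.Injective f := fun a b h =>
    emb_injective ((MulAut.conj g⁻¹).injective (congrArg Subtype.val h))
  have hb : Function.Bijective f := by
    haveI := Fintype.ofFinite ↥(Subgroup.centralizer ({u} : Set ↥Spor.M12))
    refine (Fintype.bijective_iff_injective_and_card f).2 ⟨hf, le_antisymm (Fintype.card_le_of_injective f hf) ?_⟩
    rw [← Nat.card_eq_fintype_card, ← Nat.card_eq_fintype_card, M.card]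
    exact hcard
  refine ⟨MulEquiv.ofBijective f hb, ?_⟩
  show g⁻¹ * emb M.zM * g⁻¹⁻¹ = u
  rw [hy]; group

end Cfsg.Agent.M12Cent
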