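import Cfsg.Agent.M12Cent.CaseOne
import Cfsg.Agent.Char.Ortho

/-!
A simple group with this centralizer of an involution has order 95040.
-/

set_option autoImplicit false
set_option maxRecDepth 8000

namespace Cfsg.Agent.M12Cent

universe u

variable {G : Type u} [Group G] [Finite G] [IsSimpleGroup G]

namespace Emb

variable {z : G} (h : Emb z) (hna : ¬ IsMulCommutative G)
include h hna

theorem class_all (x : M) : ((IsConj z (h.ι x)) ↔ M.zOne x = true) ∧
    ((IsConj (h.ι M.bM) (h.ι x)) ↔ M.bOne x = true) := by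
  by_cases hx : M.ty x = 0
  · refine ⟨iff_of_false (fun hc => h.ty_ne_zero (Invol.orderOf_eq_two_of_isConj hc h.hz) hx) ?_,
      iff_of_false (fun hc => h.ty_ne_zero (Invol.orderOf_eq_two_of_isConj hc h.hb) hx) ?_⟩ <;>
    simp [M.zOne, M.bOne, hx]
  · exact h.class_one hna (h.caseOne hna) hx

theorem pairs_z : Nat.card {q : G × G // IsConj z q.1 ∧ IsConj (h.ι M.bM) q.2 ∧
    z ∈ Subgroup.zpowers (q.1 * q.2)} = 240 := by
  classical
  rw [card_pairs h.ι h.inj h.ι_z (fun g hg => h.mem_range hg) h.hz h.hz h.hb, ← M.pairs_one,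
    M.pairs, ← Fintype.card_subtype, ← Nat.card_eq_fintype_card]
  refine Nat.card_congr (Equiv.subtypeEquivRight fun q => ?_)
  simp only [(h.class_all hna q.1).1, (h.class_all hna q.2).2, h.comm, and_true, Bool.and_eq_true,
    M.hit_iff, and_assoc]

theorem pairs_same : Nat.card {q : G × G // IsConj z q.1 ∧ IsConj z q.2 ∧
    z ∈ Subgroup.zpowers (q.1 * q.2)} = 318 := by
  classical
  rw [card_pairs h.ι h.inj h.ι_z (fun g hg => h.mem_range hg) h.hz h.hz h.hz, ← M.pairs_one_same,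
    M.pairs, ← Fintype.card_subtype, ← Nat.card_eq_fintype_card]
  refine Nat.card_congr (Equiv.subtypeEquivRight fun q => ?_)
  simp only [(h.class_all hna q.1).1, (h.class_all hna q.2).1, h.comm, and_true, Bool.and_eq_true,
    M.hit_iff, and_assoc]

/-- The classes in the centralizer of `b`, as a direct product with a symmetric group. -/
theorem class_psi {n : ℕ} (h60 : ∀ s : Equiv.Perm (Fin n), s ^ 60 = 1)
    (hzc : ∀ p : Two.C2 × Equiv.Perm (Fin n), Two.zcls p = true ↔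
      p.1 = 1 ∧ Equiv.Perm.sign p.2 = 1 ∧ p.2 * p.2 = 1 ∧ p.2 ≠ 1)
    (hdc : ∀ s t : Equiv.Perm (Fin n), Equiv.Perm.sign s = 1 → s * s = 1 → s ≠ 1 →
      Equiv.Perm.sign t = 1 → t * t = 1 → t ≠ 1 → ∃ c, c * s * c⁻¹ = t)
    (ψ : Two.C2 × Equiv.Perm (Fin n) →* G) (hi : Function.Injective ψ)
    (hr : ψ.range = Subgroup.centralizer ({h.ι M.bM} : Set G)) (hb : ψ (Two.gen, 1) = h.ι M.bM) :
    Nat.card {q : G × G // IsConj z q.1 ∧ IsConj (h.ι M.bM) q.2 ∧
      h.ι M.bM ∈ Subgroup.zpowers (q.1 * q.2)} = Two.cnt n := by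
  classical
  have hmem : ∀ g : G, g * h.ι M.bM = h.ι M.bM * g → ∃ p, ψ p = g := fun g hg => by
    have : g ∈ ψ.range := by rw [hr]; exact Subgroup.mem_centralizer_singleton_iff.2 hg
    exact this
  have hcomm : ∀ p, ψ p * h.ι M.bM = h.ι M.bM * ψ p := fun p => by
    have : ψ p ∈ Subgroup.centralizer ({h.ι M.bM} : Set G) := by rw [← hr]; exact ⟨p, rfl⟩
    exact Subgroup.mem_centralizer_singleton_iff.1 this
  -- the coordinates of `z`
  obtain ⟨⟨ez, sz⟩, hzp⟩ := hmem z (h.comm M.bM).symm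
  obtain ⟨p, q, hp, hq, hpq⟩ := M.comm_bM.2
  obtain ⟨P, hP⟩ := hmem (h.ι p) ((h.comm_iff _ _).2 hp)
  obtain ⟨Q, hQ⟩ := hmem (h.ι q) ((h.comm_iff _ _).2 hq)
  have hPQ : ((ez, sz) : Two.C2 × Equiv.Perm (Fin n)) = P * Q * P⁻¹ * Q⁻¹ := hi (by
    have e := congrArg h.ι hpq
    rw [map_mul, map_mul, map_mul, map_inv, map_inv, h.ι_z] at e
    rw [map_mul, map_mul, map_mul, map_inv, map_inv, hP, hQ, hzp, e])
  have hez : ez = 1 := by
    have := congrArg Prod.fst hPQ
    simp only [Prod.fst_mul, Prod.fst_inv] at this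
    rw [this, mul_comm P.1, mul_inv_cancel_right, mul_inv_cancel]
  have hsz : Equiv.Perm.sign sz = 1 := by
    have := congrArg Prod.snd hPQ
    simp only [Prod.snd_mul, Prod.snd_inv] at this
    rw [this]
    simp only [map_mul, map_inv]
    rw [mul_comm (Equiv.Perm.sign P.2), mul_inv_cancel_right, mul_inv_cancel]
  have hzz : ((ez, sz) : Two.C2 × Equiv.Perm (Fin n)) * (ez, sz) = 1 := hi (by
    rw [map_mul, map_one, hzp, Invol.mul_self_eq_one h.hz])
  have hz1 : sz ≠ 1 := fun e => by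
    have hz := h.hz
    rw [← hzp, hez, e, show ((1 : Two.C2), (1 : Equiv.Perm (Fin n))) = 1 from rfl, map_one,
      orderOf_one] at hz
    omega
  have hzs : sz * sz = 1 := congrArg Prod.snd hzz
  obtain ⟨g0, hg0b, hg0z, hg0a⟩ := h.fused_one hna (h.caseOne hna)
  have hg0c : g0 * h.ι M.bM = h.ι M.bM * g0 := mul_inv_eq_iff_eq_mul.1 hg0b
  -- the first class
  have hcls : ∀ r, IsConj z (ψ r) ↔ Two.zcls r = true := by
    intro r
    rw [hzc]
    constructor
    · intro hc
      obtain ⟨c, x, hcb, hxb, hx, hcx⟩ :=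
        h.conj_into_W (Invol.orderOf_eq_two_of_isConj hc h.hz) (hcomm r)
      have hxz := h.zclass_W hna hx hxb (hc.trans (isConj_iff.2 ⟨c, hcx⟩))
      obtain ⟨d, hdb, hd⟩ : ∃ d : G, d * h.ι M.bM = h.ι M.bM * d ∧ d * ψ r * d⁻¹ = z := by
        have hinv : g0⁻¹ * h.ι M.bM = h.ι M.bM * g0⁻¹ := (Commute.inv_left hg0c).eq
        have h1 : g0⁻¹ * h.ι M.aM * g0⁻¹⁻¹ = z := by rw [← hg0z]; group
        rcases hxz with e | e | e
        · exact ⟨c, hcb, by rw [hcx, e, h.ι_z]⟩
        · refine ⟨g0⁻¹ * c, by rw [mul_assoc, hcb, ← mul_assoc, hinv, mul_assoc], ?_⟩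
          rw [show g0⁻¹ * c * ψ r * (g0⁻¹ * c)⁻¹ = g0⁻¹ * (c * ψ r * c⁻¹) * g0⁻¹⁻¹ by group, hcx, e, h1]
        · refine ⟨g0⁻¹ * g0⁻¹ * c, by
            rw [mul_assoc, hcb, ← mul_assoc, mul_assoc g0⁻¹ g0⁻¹, hinv, ← mul_assoc, hinv, mul_assoc,
              mul_assoc, mul_assoc], ?_⟩
          rw [show g0⁻¹ * g0⁻¹ * c * ψ r * (g0⁻¹ * g0⁻¹ * c)⁻¹ =
              g0⁻¹ * (g0⁻¹ * (c * ψ r * c⁻¹) * g0⁻¹⁻¹) * g0⁻¹⁻¹ by
              simp only [mul_inv_rev, inv_inv, mul_assoc], hcx, e, h.ι_az, ← hg0a,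
            show g0⁻¹ * (g0 * h.ι M.aM * g0⁻¹) * g0⁻¹⁻¹ = h.ι M.aM by group, h1]
      obtain ⟨D, rfl⟩ := hmem d hdb
      have hD : D * r * D⁻¹ = (ez, sz) := hi (by rw [map_mul, map_mul, map_inv, hd, hzp])
      have hr' : r = D⁻¹ * (ez, sz) * D := by rw [← hD]; group
      rw [hr']
      refine ⟨?_, ?_, ?_, ?_⟩
      · simp [hez]
      · simp [hsz]
      · simp only [Prod.snd_mul, Prod.snd_inv]
        rw [show D.2⁻¹ * sz * D.2 * (D.2⁻¹ * sz * D.2) = D.2⁻¹ * (sz * sz) * D.2 by group, hzs]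
        group
      · simp only [Prod.snd_mul, Prod.snd_inv]
        intro e
        refine hz1 ?_
        calc sz = D.2 * (D.2⁻¹ * sz * D.2) * D.2⁻¹ := by group
          _ = 1 := by rw [e]; group
    · rintro ⟨h1, h2, h3, h4⟩
      obtain ⟨c, hc⟩ := hdc sz r.2 hsz hzs hz1 h2 h3 h4
      refine isConj_iff.2 ⟨ψ (1, c), ?_⟩
      rw [← hzp, ← map_inv, ← map_mul, ← map_mul]
      congr 1
      exact Prod.ext (by simp [hez, h1]) hc
  -- the second class
  have hclsb : ∀ r, IsConj (h.ι M.bM) (ψ r) ↔ Two.bcls r = true := by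
    intro r
    simp only [Two.bcls, Bool.and_eq_true, decide_eq_true_eq, Bool.not_eq_true']
    constructor
    · intro hc
      have ho := Invol.orderOf_eq_two_of_isConj hc h.hb
      refine ⟨⟨hi (by rw [map_mul, map_one, Invol.mul_self_eq_one ho]), fun e => ?_⟩, ?_⟩
      · rw [e, map_one, orderOf_one] at ho; omega
      · rw [← Bool.not_eq_true, ← hcls]
        exact fun hc' => h.not_conj_b (hc'.trans hc.symm)
    · rintro ⟨⟨h1, h2⟩, h3⟩
      have ho : orderOf (ψ r) = 2 := by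
        rw [orderOf_injective ψ hi]
        exact orderOf_eq_prime (by rw [pow_two, h1]) h2
      rcases h.two_classes hna ho with hc | hc
      · rw [← Bool.not_eq_true, ← hcls] at h3
        exact absurd hc.symm h3
      · exact hc.symm
  rw [card_pairs ψ hi hb hmem h.hb h.hz h.hb, Two.cnt, ← Fintype.card_subtype,
    ← Nat.card_eq_fintype_card]
  refine Nat.card_congr (Equiv.subtypeEquivRight fun r => ?_)
  simp only [hcls, hclsb, hcomm, and_true, Bool.and_eq_true, decide_eq_true_eq,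
    Two.mem_zpowers_iff h60, and_assoc]

theorem card_psi {n : ℕ} (ψ : Two.C2 × Equiv.Perm (Fin n) →* G) (hi : Function.Injective ψ)
    (hr : ψ.range = Subgroup.centralizer ({h.ι M.bM} : Set G)) :
    Nat.card (Subgroup.centralizer ({h.ι M.bM} : Set G)) = 2 * n.factorial := by
  rw [← hr, ← Nat.card_congr (MonoidHom.ofInjective hi).toEquiv, Nat.card_prod, Nat.card_perm,
    Nat.card_fin]
  congr 1
  exact Nat.card_eq_fintype_card.trans rfl

/-- The order of the group. -/
theorem card_eq : Nat.card G = 95040 := by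
  classical
  obtain ⟨n, hn, ψ, hi, hr, hb⟩ := h.exists_psi hna
  have hf := h.order_formula hna
  rw [h.pairs_z hna] at hf
  rcases hn with rfl | rfl
  · exfalso
    rw [h.class_psi hna Two.pow_sixty_four Two.zcls_iff_four Two.double_conj_four ψ hi hr hb,
      Two.cnt_four, h.card_psi hna ψ hi hr] at hf
    norm_num [Nat.factorial] at hf
    have hle := pairs_le_class z h.hz
    rw [h.pairs_same hna, Char.card_isConj_eq_index] at hle
    have hci := (Subgroup.centralizer ({z} : Set G)).card_mul_index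
    rw [h.card_cent, hf] at hci
    omega
  · rw [h.class_psi hna Two.pow_sixty_five Two.zcls_iff_five Two.double_conj_five ψ hi hr hb,
      Two.cnt_five, h.card_psi hna ψ hi hr] at hf
    norm_num [Nat.factorial] at hf
    exact hf

end Emb

end Cfsg.Agent.M12Cent
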