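import Mathlib

/-!
Counting in the direct products of a group of order two with symmetric groups of degree four and five.
-/

set_option autoImplicit false
set_option maxRecDepth 8000

namespace Cfsg.Agent.M12Cent.Two

/-- The group of order two. -/
abbrev C2 := Multiplicative (ZMod 2)

/-- Its generator. -/
def gen : C2 := Multiplicative.ofAdd 1

theorem c2_cases : ∀ e : C2, e = 1 ∨ e = gen := by decide

theorem gen_ne : gen ≠ 1 := by decide

theorem sq_one : ∀ e : C2, e * e = 1 := by decide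

variable {n : ℕ}

/-- The class of the central involution. -/
def zcls (p : C2 × Equiv.Perm (Fin n)) : Bool :=
  decide (p.1 = 1 ∧ (Finset.univ.filter fun i => p.2 i = i).card ≤ 1 ∧ p.2 * p.2 = 1 ∧ p.2 ≠ 1)

/-- The other class. -/
def bcls (p : C2 × Equiv.Perm (Fin n)) : Bool :=
  decide (p * p = 1 ∧ p ≠ 1) && !(zcls p)

theorem fixed_four : ∀ s : Equiv.Perm (Fin 4), s * s = 1 → s ≠ 1 →
    ((Finset.univ.filter fun i => s i = i).card ≤ 1 ↔ Equiv.Perm.sign s = 1) := by decide +kernel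

theorem fixed_five : ∀ s : Equiv.Perm (Fin 5), s * s = 1 → s ≠ 1 →
    ((Finset.univ.filter fun i => s i = i).card ≤ 1 ↔ Equiv.Perm.sign s = 1) := by decide +kernel

theorem zcls_iff_four (p : C2 × Equiv.Perm (Fin 4)) : zcls p = true ↔
    p.1 = 1 ∧ Equiv.Perm.sign p.2 = 1 ∧ p.2 * p.2 = 1 ∧ p.2 ≠ 1 := by
  rw [zcls, decide_eq_true_eq]
  exact and_congr_right fun _ => and_congr_left fun h => fixed_four p.2 h.1 h.2

theorem zcls_iff_five (p : C2 × Equiv.Perm (Fin 5)) : zcls p = true ↔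
    p.1 = 1 ∧ Equiv.Perm.sign p.2 = 1 ∧ p.2 * p.2 = 1 ∧ p.2 ≠ 1 := by
  rw [zcls, decide_eq_true_eq]
  exact and_congr_right fun _ => and_congr_left fun h => fixed_five p.2 h.1 h.2

theorem pow_sixty_four : ∀ s : Equiv.Perm (Fin 4), s ^ 60 = 1 := fun s => by
  have h : orderOf s ∣ 24 := by
    have := orderOf_dvd_card (x := s)
    rwa [Fintype.card_perm, Fintype.card_fin] at this
  have h4 : ∀ s : Equiv.Perm (Fin 4), s ^ 4 = 1 ∨ s ^ 3 = 1 := by decide +kernel
  rcases h4 s with e | e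
  · rw [show 60 = 4 * 15 by norm_num, pow_mul, e, one_pow]
  · rw [show 60 = 3 * 20 by norm_num, pow_mul, e, one_pow]

theorem pow_sixty_five : ∀ s : Equiv.Perm (Fin 5), s ^ 60 = 1 := fun s => by
  have h4 : ∀ s : Equiv.Perm (Fin 5), s ^ 4 = 1 ∨ s ^ 5 = 1 ∨ s ^ 6 = 1 := by decide +kernel
  rcases h4 s with e | e | e
  · rw [show 60 = 4 * 15 by norm_num, pow_mul, e, one_pow]
  · rw [show 60 = 5 * 12 by norm_num, pow_mul, e, one_pow]
  · rw [show 60 = 6 * 10 by norm_num, pow_mul, e, one_pow]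

theorem mem_zpowers_iff (h60 : ∀ s : Equiv.Perm (Fin n), s ^ 60 = 1)
    (p : C2 × Equiv.Perm (Fin n)) :
    ((gen, 1) : C2 × Equiv.Perm (Fin n)) ∈ Subgroup.zpowers p ↔ p.1 = gen ∧ p.2 ^ 15 = 1 := by
  constructor
  · intro h
    obtain ⟨k, hk⟩ := mem_powers_iff_mem_zpowers.2 h
    obtain ⟨e, s⟩ := p
    have hk' : ((e, s) : C2 × Equiv.Perm (Fin n)) ^ k = (gen, 1) := hk
    have h1 : e ^ k = gen := congrArg Prod.fst hk'
    have h2 : s ^ k = 1 := congrArg Prod.snd hk'
    have he : e = gen := by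
      rcases c2_cases e with he | he
      · rw [he, one_pow] at h1; exact absurd h1.symm gen_ne
      · exact he
    refine ⟨he, ?_⟩
    rw [← orderOf_dvd_iff_pow_eq_one]
    have hodd : ¬ 2 ∣ k := by
      rintro ⟨m, rfl⟩
      rw [pow_mul, pow_two, sq_one, one_pow] at h1
      exact gen_ne h1.symm
    have hd := orderOf_dvd_of_pow_eq_one h2
    have hd' := orderOf_dvd_of_pow_eq_one (h60 s)
    have hc : Nat.Coprime (orderOf s) 4 := by
      have : ¬ 2 ∣ orderOf s := fun hh => hodd (hh.trans hd)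
      exact Nat.Coprime.pow_right 2 ((Nat.prime_two.coprime_iff_not_dvd.2 this).symm)
    exact hc.dvd_of_dvd_mul_right (show orderOf s ∣ 15 * 4 from hd')
  · rintro ⟨h1, h2⟩
    refine Subgroup.mem_zpowers_iff.2 ⟨15, ?_⟩
    obtain ⟨e, s⟩ := p
    simp only at h1 h2
    subst h1
    rw [show (15 : ℤ) = ((15 : ℕ) : ℤ) by norm_num, zpow_natCast, Prod.pow_mk, h2]
    have e15 : gen ^ 15 = gen := by decide
    rw [e15]

/-- The pairs of the two classes whose product has the central element among its powers. -/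
def cnt (n : ℕ) : ℕ :=
  (Finset.univ.filter fun q : (C2 × Equiv.Perm (Fin n)) × (C2 × Equiv.Perm (Fin n)) =>
    (zcls q.1 && bcls q.2 && decide ((q.1 * q.2).1 = gen ∧ (q.1 * q.2).2 ^ 15 = 1)) = true).card

theorem cnt_eq (n : ℕ) : cnt n =
    ∑ a ∈ (Finset.univ.filter fun a : C2 × Equiv.Perm (Fin n) => zcls a = true),
      (Finset.univ.filter fun b : C2 × Equiv.Perm (Fin n) =>
        (bcls b && decide ((a * b).1 = gen ∧ (a * b).2 ^ 15 = 1)) = true).card := by
  rw [cnt, Finset.sum_filter, Finset.card_filter, Fintype.sum_prod_type]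
  refine Finset.sum_congr rfl fun a _ => ?_
  rw [Finset.card_filter]
  rcases h : zcls a <;> simp [h]

theorem cnt_four : cnt 4 = 3 := by rw [cnt_eq]; decide +kernel

theorem cnt_five : cnt 5 = 195 := by rw [cnt_eq]; decide +kernel

theorem double_conj_four : ∀ s t : Equiv.Perm (Fin 4), Equiv.Perm.sign s = 1 → s * s = 1 → s ≠ 1 →
    Equiv.Perm.sign t = 1 → t * t = 1 → t ≠ 1 → ∃ c, c * s * c⁻¹ = t := by decide +kernel

theorem double_rep_five : ∀ t : Equiv.Perm (Fin 5), Equiv.Perm.sign t = 1 → t * t = 1 → t ≠ 1 →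
    ∃ c, c * (Equiv.swap 0 1 * Equiv.swap 2 3) * c⁻¹ = t := by decide +kernel

theorem double_conj_five (s t : Equiv.Perm (Fin 5)) (hs : Equiv.Perm.sign s = 1) (hs2 : s * s = 1)
    (hs1 : s ≠ 1) (ht : Equiv.Perm.sign t = 1) (ht2 : t * t = 1) (ht1 : t ≠ 1) :
    ∃ c, c * s * c⁻¹ = t := by
  obtain ⟨a, ha⟩ := double_rep_five s hs hs2 hs1
  obtain ⟨b, hb⟩ := double_rep_five t ht ht2 ht1
  exact ⟨b * a⁻¹, by rw [← ha, ← hb]; group⟩

end Cfsg.Agent.M12Cent.Two
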