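import Cfsg.Agent.M12Cent.CaseTwo
import Cfsg.Agent.M12Cent.Two
import Cfsg.Agent.Fg24.InvolD8.Mixed

/-!
The centralizer of the second kind of involution is `2 × S₄` or `2 × S₅`.
-/

set_option autoImplicit false
set_option maxRecDepth 8000

namespace Cfsg.Agent.M12Cent

open DihedralGroup Cfsg.Agent.Invol

namespace M

/-- A subgroup of index two in the centralizer of `bM`, not containing it. -/
def inD (x : M) : Bool := decide (∃ i : Fin 4, x = rM ^ i.1 ∨ x = aM * rM ^ i.1)

theorem inD_spec : inD 1 = true ∧ inD bM = false ∧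
    ∀ x y : M, x * bM = bM * x → y * bM = bM * y → inD (x * y) = (inD x == inD y) := by
  decide +kernel

/-- The two dihedral complements of `bM` in its centralizer. -/
def dihMap (ρ : M) : DihedralGroup (2 ^ 2) → M
  | r i => ρ ^ i.val
  | sr i => aM * ρ ^ i.val

theorem dihMap_spec : ∀ ρ : M, ρ = rM ∨ ρ = rM * bM →
    dihMap ρ 1 = 1 ∧ (∀ d e, dihMap ρ (d * e) = dihMap ρ d * dihMap ρ e) ∧
      (∀ d, dihMap ρ d = 1 → d = 1) ∧ (∀ d, dihMap ρ d * bM = bM * dihMap ρ d) ∧
      dihMap ρ (r 2) = zM ∧ dihMap ρ (sr 0) = aM ∧ ty (dihMap ρ (sr 1)) = 3 := by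
  rintro ρ (rfl | rfl) <;> decide +kernel

end M

open Classical in
/-- The character of the centralizer of `bM` with kernel `inD`. -/
noncomputable def chiW : WM →* Two.C2 where
  toFun x := if M.inD x.1 = true then 1 else Two.gen
  map_one' := by rw [if_pos (show M.inD ((1 : WM) : M) = true from M.inD_spec.1)]
  map_mul' x y := by
    rw [Subgroup.coe_mul, M.inD_spec.2.2 _ _ (Subgroup.mem_centralizer_singleton_iff.1 x.2)
      (Subgroup.mem_centralizer_singleton_iff.1 y.2)]
    cases M.inD x.1 <;> cases M.inD y.1 <;> simp [Two.sq_one]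

universe u

variable {G : Type u} [Group G] [Finite G] [IsSimpleGroup G]

namespace Emb

variable {z : G} (h : Emb z) (hna : ¬ IsMulCommutative G)
include h hna

/-- The centralizer of `b` is the product of `b` with a symmetric group of degree four or five. -/
theorem exists_psi : ∃ n : ℕ, (n = 4 ∨ n = 5) ∧ ∃ ψ : Two.C2 × Equiv.Perm (Fin n) →* G,
    Function.Injective ψ ∧ ψ.range = Subgroup.centralizer ({h.ι M.bM} : Set G) ∧
      ψ (Two.gen, 1) = h.ι M.bM := by
  classical
  haveI : Fact (Nat.Prime 2) := ⟨Nat.prime_two⟩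
  have hI := h.caseOne hna
  set L := Subgroup.centralizer ({h.ι M.bM} : Set G)
  obtain ⟨S, hS⟩ := h.sylow_jW
  let χ : ↥h.jW.range →* Two.C2 := chiW.comp (MonoidHom.ofInjective h.jW_inj).symm.toMonoidHom
  let V : L →* Two.C2 := MonoidHom.transfer χ
  let bW : WM := ⟨M.bM, Subgroup.mem_centralizer_singleton_iff.2 rfl⟩
  set b' : L := h.jW bW
  have hb'v : (b' : G) = h.ι M.bM := rfl
  have hbcen : ∀ l : L, l * b' = b' * l := fun l =>
    Subtype.ext (Subgroup.mem_centralizer_singleton_iff.1 l.2)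
  have hodd : ¬ 2 ∣ h.jW.range.index := by
    rw [← hS]; exact S.not_dvd_index
  have hcardL : Nat.card L = 16 * h.jW.range.index := by
    rw [← h.card_jW, Subgroup.card_mul_index]
  have hVb : V b' = Two.gen := by
    have key : ∀ (k : ℕ) (g₀ : L), g₀⁻¹ * b' ^ k * g₀ ∈ h.jW.range →
        g₀⁻¹ * b' ^ k * g₀ = b' ^ k := fun k g₀ _ => by
      have hc : Commute g₀ b' := hbcen g₀
      rw [mul_assoc, ← (hc.pow_right k).eq, inv_mul_cancel_left]
    have hmem : b' ∈ h.jW.range := ⟨bW, rfl⟩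
    show MonoidHom.transfer χ b' = Two.gen
    rw [MonoidHom.transfer_eq_pow χ b' key]
    rw [show (⟨b' ^ h.jW.range.index, _⟩ : h.jW.range) = (⟨b', hmem⟩ : h.jW.range) ^ h.jW.range.index
      from Subtype.ext rfl, map_pow]
    have e : χ ⟨b', hmem⟩ = Two.gen := by
      show chiW ((MonoidHom.ofInjective h.jW_inj).symm ⟨b', hmem⟩) = Two.gen
      rw [show (⟨b', hmem⟩ : h.jW.range) = MonoidHom.ofInjective h.jW_inj bW from Subtype.ext rfl,
        MulEquiv.symm_apply_apply]
      show (if M.inD M.bM = true then 1 else Two.gen) = Two.gen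
      rw [M.inD_spec.2.1]
      rfl
    rw [e]
    obtain ⟨m, hm⟩ : ∃ m, h.jW.range.index = 2 * m + 1 := ⟨h.jW.range.index / 2, by omega⟩
    rw [hm, pow_succ, pow_mul, pow_two, Two.sq_one, one_pow, one_mul]
  -- fusion inside `L`
  obtain ⟨g0, hg0b, hg0z, hg0a⟩ := h.fused_one hna hI
  let gL : L := ⟨g0, Subgroup.mem_centralizer_singleton_iff.2 (mul_inv_eq_iff_eq_mul.1 hg0b)⟩
  let zW : WM := ⟨M.zM, Subgroup.mem_centralizer_singleton_iff.2 (M.zM_central M.bM).symm⟩
  let aW : WM := ⟨M.aM, Subgroup.mem_centralizer_singleton_iff.2 M.bM_aM.symm⟩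
  set zL : L := h.jW zW
  set aL : L := h.jW aW
  have hgza : gL * zL * gL⁻¹ = aL := Subtype.ext (by
    show g0 * h.ι M.zM * g0⁻¹ = h.ι M.aM
    rw [h.ι_z, hg0z])
  have hVz : V zL = 1 := by
    obtain ⟨p, q, hp, hq, hpq⟩ := M.comm_bM.2
    have e : zW = ⟨p, Subgroup.mem_centralizer_singleton_iff.2 hp⟩ *
        ⟨q, Subgroup.mem_centralizer_singleton_iff.2 hq⟩ *
        (⟨p, Subgroup.mem_centralizer_singleton_iff.2 hp⟩ : WM)⁻¹ *
        (⟨q, Subgroup.mem_centralizer_singleton_iff.2 hq⟩ : WM)⁻¹ := Subtype.ext hpq.symm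
    show V (h.jW zW) = 1
    rw [e, map_mul, map_mul, map_mul, map_inv, map_inv, map_mul, map_mul, map_mul, map_inv, map_inv]
    simp [mul_comm, mul_left_comm]
  have hVa : V aL = 1 := by
    rw [← hgza, map_mul, map_mul, map_inv, hVz, mul_one, mul_inv_cancel]
  let rW : WM := ⟨M.rM, Subgroup.mem_centralizer_singleton_iff.2 M.dihedral_W.2.2.1⟩
  obtain ⟨ρ, hρ, hρb, hVρ⟩ : ∃ ρ : M, (ρ = M.rM ∨ ρ = M.rM * M.bM) ∧
      ∃ hh : ρ ∈ WM, V (h.jW ⟨ρ, hh⟩) = 1 := by
    rcases Two.c2_cases (V (h.jW rW)) with e | e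
    · exact ⟨_, Or.inl rfl, rW.2, e⟩
    · refine ⟨_, Or.inr rfl, (rW * bW).2, ?_⟩
      show V (h.jW (rW * bW)) = 1
      rw [map_mul, map_mul, e]
      show Two.gen * V b' = 1
      rw [hVb, Two.sq_one]
  obtain ⟨d1, dmul, dker, dcomm, dz, da, dty⟩ := M.dihMap_spec ρ hρ
  let δW : DihedralGroup (2 ^ 2) →* WM :=
    { toFun := fun d => ⟨M.dihMap ρ d, Subgroup.mem_centralizer_singleton_iff.2 (dcomm d)⟩
      map_one' := Subtype.ext d1
      map_mul' := fun d e => Subtype.ext (dmul d e) }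
  have hδker : ∀ d, h.jW (δW d) ∈ V.ker := by
    intro d
    rw [MonoidHom.mem_ker]
    rcases d with i | i
    · have e : δW (r i) = (⟨ρ, hρb⟩ : WM) ^ i.val := Subtype.ext rfl
      rw [e, map_pow, map_pow, hVρ, one_pow]
    · have e : δW (sr i) = aW * (⟨ρ, hρb⟩ : WM) ^ i.val := Subtype.ext rfl
      rw [e, map_mul, map_mul, map_pow, map_pow, hVρ, one_pow, mul_one]
      exact hVa
  let δ : DihedralGroup (2 ^ 2) →* V.ker := (h.jW.comp δW).codRestrict _ hδker
  have hδv : ∀ d, ((δ d : L) : G) = h.ι (M.dihMap ρ d) := fun d => rfl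
  have hδi : Function.Injective δ := by
    refine (injective_iff_map_eq_one δ).2 fun d hd => dker d (h.inj ?_)
    rw [← hδv, hd, map_one]; rfl
  have hd8 : Nat.card δ.range = 8 := by
    rw [← Nat.card_congr (MonoidHom.ofInjective hδi).toEquiv, DihedralGroup.nat_card]; norm_num
  have hVsurj : Function.Surjective V := fun e => by
    rcases Two.c2_cases e with rfl | rfl
    exacts [⟨1, map_one V⟩, ⟨b', hVb⟩]
  have hker2 : Nat.card V.ker * 2 = Nat.card L := by
    rw [← V.ker.card_mul_index, Subgroup.index_ker, MonoidHom.range_eq_top.2 hVsurj, Subgroup.card_top,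
      show Nat.card Two.C2 = 2 from Nat.card_eq_fintype_card.trans rfl]
  obtain ⟨S0, hS0⟩ := (IsPGroup.of_card (p := 2) (n := 3) (by rw [hd8]; norm_num) :
    IsPGroup 2 δ.range).exists_le_sylow
  have hS0eq : (S0 : Subgroup V.ker) = δ.range := by
    refine (Subgroup.eq_of_le_of_card_ge hS0 ?_).symm
    obtain ⟨k, hk⟩ := IsPGroup.iff_card.1 S0.2
    rw [hd8, hk]
    have hd := (S0 : Subgroup V.ker).card_subgroup_dvd_card
    rw [hk] at hd
    have hk3 : k ≤ 3 := by
      by_contra hk'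
      have h16 : 16 ∣ Nat.card V.ker := (show 2 ^ 4 ∣ 2 ^ k from pow_dvd_pow 2 (by omega)).trans hd
      omega
    exact (Nat.pow_le_pow_right (by norm_num) hk3).trans (by norm_num)
  have D : DData S0 2 δ := ⟨by norm_num, hδi, hS0eq.symm⟩
  set z0 := δ (r (dh 2)) with hz0
  have hdh : dh 2 = (2 : ZMod (2 ^ 2)) := Fg24.InvolD8.dh_two
  have hz0v : ((z0 : L) : G) = z := by rw [hz0, hδv, hdh, dz, h.ι_z]
  have hC0 : Subgroup.centralizer ({z0} : Set V.ker) = δ.range := by
    refine (Subgroup.eq_of_le_of_card_ge ?_ ?_).symm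
    · rintro _ ⟨d, rfl⟩
      refine Subgroup.mem_centralizer_singleton_iff.2 (Subtype.ext (Subtype.ext ?_))
      show ((δ d : L) : G) * ((z0 : L) : G) = ((z0 : L) : G) * ((δ d : L) : G)
      rw [hδv, hz0v, h.comm]
    · rw [hd8]
      set U := (Subgroup.centralizer ({z0} : Set V.ker)).map V.ker.subtype
      have hU : U ≤ h.jW.range := by
        rintro _ ⟨k, hk, rfl⟩
        refine h.mem_jW.2 ?_
        have := congrArg (fun x : V.ker => ((x : L) : G)) (Subgroup.mem_centralizer_singleton_iff.1 hk)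
        simpa [hz0v] using this
      have hne : U ≠ h.jW.range := fun e => by
        obtain ⟨k, -, hk⟩ := (e ▸ ⟨bW, rfl⟩ : b' ∈ U)
        have := k.2
        rw [MonoidHom.mem_ker] at this
        rw [show V.ker.subtype k = (k : L) from rfl] at hk
        rw [hk, hVb] at this
        exact Two.gen_ne this
      have hUcard : Nat.card U = Nat.card (Subgroup.centralizer ({z0} : Set V.ker)) :=
        (Nat.card_congr ((Subgroup.centralizer ({z0} : Set V.ker)).equivMapOfInjective _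
          V.ker.subtype_injective).toEquiv).symm
      have hd := Subgroup.card_dvd_of_le hU
      rw [h.card_jW] at hd
      have hlt : Nat.card U < 16 := by
        by_contra hge
        exact hne (Subgroup.eq_of_le_of_card_ge hU (by rw [h.card_jW]; omega))
      rw [← hUcard]
      have hmem : Nat.card U ∈ Nat.divisors 16 := Nat.mem_divisors.2 ⟨hd, by norm_num⟩
      rw [show Nat.divisors 16 = {1, 2, 4, 8, 16} from by decide] at hmem
      simp only [Finset.mem_insert, Finset.mem_singleton] at hmem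
      omega
  have hza : IsConj z0 (δ (sr 0)) := by
    rcases Two.c2_cases (V gL) with e | e
    · refine isConj_iff.2 ⟨⟨gL, e⟩, Subtype.ext (Subtype.ext ?_)⟩
      show g0 * ((z0 : L) : G) * g0⁻¹ = ((δ (sr 0) : L) : G)
      rw [hz0v, hδv, da, hg0z]
    · refine isConj_iff.2 ⟨⟨b' * gL, by rw [MonoidHom.mem_ker, map_mul, hVb, e, Two.sq_one]⟩,
        Subtype.ext (Subtype.ext ?_)⟩
      show h.ι M.bM * g0 * ((z0 : L) : G) * (h.ι M.bM * g0)⁻¹ = ((δ (sr 0) : L) : G)
      rw [hz0v, hδv, da, show h.ι M.bM * g0 * z * (h.ι M.bM * g0)⁻¹ =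
        h.ι M.bM * (g0 * z * g0⁻¹) * (h.ι M.bM)⁻¹ by group, hg0z,
        (h.comm_iff _ _).2 M.bM_aM, mul_inv_cancel_right]
  have hC : Subgroup.centralizer ({z0} : Set V.ker) = (S0 : Subgroup V.ker) := hC0.trans hS0eq.symm
  have hO : Cfsg.oddCore V.ker = ⊥ := by
    have hzaz : z0 * δ (sr 0) = δ (sr 0) * z0 := (D.z_comm (D.mem _)).symm
    have hne : z0 ≠ δ (sr 0) := fun e => by
      exact DihedralGroup.noConfusion rfl (heq_of_eq (hδi e))
    have hsq : IsConj z0 (z0 * δ (sr 0)) := by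
      refine hza.trans ?_
      have key : ∀ g : L, V g = 1 → (g : G) * h.ι M.aM * (g : G)⁻¹ = h.ι M.aM * z →
          IsConj (δ (sr 0)) (z0 * δ (sr 0)) := by
        intro g hg hga
        refine isConj_iff.2 ⟨⟨g, hg⟩, Subtype.ext (Subtype.ext ?_)⟩
        show (g : G) * ((δ (sr 0) : L) : G) * (g : G)⁻¹ = ((z0 : L) : G) * ((δ (sr 0) : L) : G)
        rw [hz0v, hδv, da, hga, h.za]
      rcases Two.c2_cases (V gL) with e | e
      · exact key gL e hg0a
      · refine key (b' * gL) (by rw [map_mul, hVb, e, Two.sq_one]) ?_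
        show h.ι M.bM * g0 * h.ι M.aM * (h.ι M.bM * g0)⁻¹ = h.ι M.aM * z
        rw [show h.ι M.bM * g0 * h.ι M.aM * (h.ι M.bM * g0)⁻¹ =
          h.ι M.bM * (g0 * h.ι M.aM * g0⁻¹) * (h.ι M.bM)⁻¹ by group, hg0a, ← h.ι_az,
          (h.comm_iff _ _).2 (show M.bM * (M.aM * M.zM) = M.aM * M.zM * M.bM by decide +kernel),
          mul_inv_cancel_right]
    refine Fg24.InvolD8.oddCore_eq_bot_of_pair D.z_order (D.sr_order 0) hzaz hne ?_ hza hsq
    rw [hC0, hd8]
  have hna' : ¬ IsConj (δ (sr 1)) z0 := by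
    intro hc
    obtain ⟨c, hc⟩ := isConj_iff.1 hc
    have hc' := congrArg (fun x : V.ker => ((x : L) : G)) hc
    simp only [Subgroup.coe_mul, Subgroup.coe_inv, hz0v, hδv] at hc'
    exact h.not_conj_b (((isConj_iff.2 ⟨_, hc'⟩).symm).trans (h.conj_three dty).symm)
  have hmix := Fg24.InvolD8.mixed hO S0 D hC (a := 1) (b := 0) hna' hza.symm
  -- assemble the product
  have hbb : b' * b' = 1 := Subtype.ext (Invol.mul_self_eq_one h.hb)
  have build : ∀ n : ℕ, (V.ker ≃* Equiv.Perm (Fin n)) →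
      ∃ ψ : Two.C2 × Equiv.Perm (Fin n) →* G,
        Function.Injective ψ ∧ ψ.range = L ∧ ψ (Two.gen, 1) = h.ι M.bM := by
    intro n e
    let β : Two.C2 →* L :=
      { toFun := fun c => if c = 1 then 1 else b'
        map_one' := if_pos rfl
        map_mul' := fun c d => by
          rcases Two.c2_cases c with rfl | rfl <;> rcases Two.c2_cases d with rfl | rfl <;>
            simp [Two.gen_ne, Two.sq_one, hbb] }
    have hβcomm : ∀ (c : Two.C2) (l : L), β c * l = l * β c := by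
      intro c l
      rcases Two.c2_cases c with rfl | rfl
      · rw [map_one, one_mul, mul_one]
      · show (if Two.gen = 1 then 1 else b') * l = l * (if Two.gen = 1 then 1 else b')
        rw [if_neg Two.gen_ne]
        exact (hbcen l).symm
    have hVβ : ∀ c, V (β c) = c := by
      intro c
      rcases Two.c2_cases c with rfl | rfl
      · rw [map_one, map_one]
      · show V (if Two.gen = 1 then 1 else b') = Two.gen
        rw [if_neg Two.gen_ne, hVb]
    let ψL : Two.C2 × Equiv.Perm (Fin n) →* L :=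
      { toFun := fun p => β p.1 * (e.symm p.2 : L)
        map_one' := by simp
        map_mul' := fun p q => by
          simp only [Prod.fst_mul, Prod.snd_mul, map_mul, Subgroup.coe_mul]
          rw [mul_assoc, ← mul_assoc (β q.1), hβcomm q.1, mul_assoc, ← mul_assoc, ← mul_assoc] }
    have hψV : ∀ p, V (ψL p) = p.1 := fun p => by
      show V (β p.1 * (e.symm p.2 : L)) = p.1
      rw [map_mul, hVβ, (MonoidHom.mem_ker).1 (e.symm p.2).2, mul_one]
    refine ⟨L.subtype.comp ψL, ?_, ?_, ?_⟩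
    · refine (injective_iff_map_eq_one _).2 fun p hp => ?_
      have hp' : ψL p = 1 := Subtype.ext hp
      have h1 := hψV p
      rw [hp', map_one] at h1
      have h2 : β p.1 * (e.symm p.2 : L) = 1 := hp'
      rw [← h1, map_one, one_mul] at h2
      have h3 : p.2 = 1 := by
        have := congrArg e (Subtype.ext h2 : e.symm p.2 = 1)
        rwa [MulEquiv.apply_symm_apply, map_one] at this
      exact Prod.ext h1.symm h3
    · refine le_antisymm (by rintro _ ⟨p, rfl⟩; exact (ψL p).2) fun l hl => ?_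
      have hk : (β (V ⟨l, hl⟩))⁻¹ * ⟨l, hl⟩ ∈ V.ker := by
        rw [MonoidHom.mem_ker, map_mul, map_inv, hVβ, inv_mul_cancel]
      refine ⟨(V ⟨l, hl⟩, e ⟨_, hk⟩), ?_⟩
      show ((β (V ⟨l, hl⟩) * (e.symm (e ⟨_, hk⟩) : L) : L) : G) = l
      rw [MulEquiv.symm_apply_apply]
      show ((β (V ⟨l, hl⟩) * ((β (V ⟨l, hl⟩))⁻¹ * ⟨l, hl⟩) : L) : G) = l
      rw [mul_inv_cancel_left]
    · show ((((if Two.gen = 1 then 1 else b') : L) * (e.symm 1 : L) : L) : G) = h.ι M.bM
      rw [if_neg Two.gen_ne, map_one, OneMemClass.coe_one, mul_one, hb'v]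
  rcases hmix with ⟨⟨e⟩⟩ | ⟨⟨e⟩⟩
  · exact ⟨4, Or.inl rfl, build 4 e⟩
  · exact ⟨5, Or.inr rfl, build 5 e⟩

end Emb

end Cfsg.Agent.M12Cent
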