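import Mathlib
import Cfsg.Agent.Invol.Pair

/-!
Counting pairs of involutions of given classes by the involution of the dihedral group they generate.
-/

set_option autoImplicit false

namespace Cfsg.Agent.M12Cent

variable {G : Type*} [Group G]

theorem mem_zpowers_map_iff {N : Type*} [Group N] (f : N →* G) (hf : Function.Injective f)
    (w p : N) : f w ∈ Subgroup.zpowers (f p) ↔ w ∈ Subgroup.zpowers p := by
  constructor
  · intro h
    obtain ⟨k, hk⟩ := Subgroup.mem_zpowers_iff.1 h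
    exact Subgroup.mem_zpowers_iff.2 ⟨k, hf (by rw [map_zpow, hk])⟩
  · intro h
    obtain ⟨k, hk⟩ := Subgroup.mem_zpowers_iff.1 h
    exact Subgroup.mem_zpowers_iff.2 ⟨k, by rw [← map_zpow, hk]⟩

theorem commute_of_mem_zpowers {w x y : G} (hw : orderOf w = 2) (hx : orderOf x = 2)
    (hy : orderOf y = 2) (hm : w ∈ Subgroup.zpowers (x * y)) : x * w = w * x ∧ y * w = w * y := by
  obtain ⟨hev, hz⟩ := Invol.eq_half_pow_of_mem_zpowers hw hm
  have c1 := (Invol.commute_central hx hy hev).eq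
  have c2 := (Invol.commute_central' hx hy hev).eq
  rw [← hz] at c1 c2
  exact ⟨c1.symm, c2.symm⟩

/-- The pairs lie in the centralizer of the central involution, so can be counted there. -/
theorem card_pairs {N : Type*} [Group N] (f : N →* G) (hf : Function.Injective f) {w : G} {w' : N}
    (hw' : f w' = w) (hr : ∀ g : G, g * w = w * g → ∃ x, f x = g) (hw : orderOf w = 2) {u v : G}
    (hu : orderOf u = 2) (hv : orderOf v = 2) :
    Nat.card {q : G × G // IsConj u q.1 ∧ IsConj v q.2 ∧ w ∈ Subgroup.zpowers (q.1 * q.2)} =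
      Nat.card {q : N × N // (IsConj u (f q.1) ∧ f q.1 * w = w * f q.1) ∧
        (IsConj v (f q.2) ∧ f q.2 * w = w * f q.2) ∧ w' ∈ Subgroup.zpowers (q.1 * q.2)} := by
  subst hw'
  refine (Nat.card_congr (Equiv.ofBijective
    (fun q : {q : N × N // (IsConj u (f q.1) ∧ f q.1 * f w' = f w' * f q.1) ∧
        (IsConj v (f q.2) ∧ f q.2 * f w' = f w' * f q.2) ∧ w' ∈ Subgroup.zpowers (q.1 * q.2)} =>
      (⟨(f q.1.1, f q.1.2), q.2.1.1, q.2.2.1.1,
        by rw [← map_mul]; exact (mem_zpowers_map_iff f hf _ _).2 q.2.2.2⟩ :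
        {q : G × G // IsConj u q.1 ∧ IsConj v q.2 ∧ f w' ∈ Subgroup.zpowers (q.1 * q.2)})) ⟨?_, ?_⟩)).symm
  · intro a b hab
    have h := congrArg Subtype.val hab
    exact Subtype.ext (Prod.ext (hf (congrArg Prod.fst h)) (hf (congrArg Prod.snd h)))
  · rintro ⟨⟨x, y⟩, hx, hy, hm⟩
    obtain ⟨c1, c2⟩ := commute_of_mem_zpowers hw (Invol.orderOf_eq_two_of_isConj hx hu)
      (Invol.orderOf_eq_two_of_isConj hy hv) hm
    obtain ⟨x', rfl⟩ := hr x c1
    obtain ⟨y', rfl⟩ := hr y c2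
    exact ⟨⟨(x', y'), ⟨hx, c1⟩, ⟨hy, c2⟩, (mem_zpowers_map_iff f hf _ _).1 (by rw [map_mul]; exact hm)⟩, rfl⟩

variable [Finite G]

/-- A class of involutions is at least as large as the number of its pairs inverting a given
member of the class. -/
theorem pairs_le_class (z : G) (hz : orderOf z = 2) :
    Nat.card {q : G × G // IsConj z q.1 ∧ IsConj z q.2 ∧ z ∈ Subgroup.zpowers (q.1 * q.2)} ≤
      Nat.card {x : G // IsConj z x} := by
  classical
  set K := {x : G // IsConj z x}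
  set P := {q : G × G // IsConj z q.1 ∧ IsConj z q.2 ∧ z ∈ Subgroup.zpowers (q.1 * q.2)}
  have hc : ∀ w : K, ∃ c : G, c * z * c⁻¹ = w.1 := fun w => isConj_iff.1 w.2
  choose c hc using hc
  let f : K × P → K × K := fun p =>
    (⟨c p.1 * p.2.1.1 * (c p.1)⁻¹, p.2.2.1.trans (isConj_iff.2 ⟨c p.1, rfl⟩)⟩,
      ⟨c p.1 * p.2.1.2 * (c p.1)⁻¹, p.2.2.2.1.trans (isConj_iff.2 ⟨c p.1, rfl⟩)⟩)
  have hf : Function.Injective f := by
    rintro ⟨w, q⟩ ⟨w', q'⟩ e
    have e1 : c w * q.1.1 * (c w)⁻¹ = c w' * q'.1.1 * (c w')⁻¹ :=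
      congrArg (fun p : K × K => p.1.1) e
    have e2 : c w * q.1.2 * (c w)⁻¹ = c w' * q'.1.2 * (c w')⁻¹ :=
      congrArg (fun p : K × K => p.2.1) e
    have hpow : ∀ (a : K) (r : P),
        a.1 ∈ Subgroup.zpowers ((c a * r.1.1 * (c a)⁻¹) * (c a * r.1.2 * (c a)⁻¹)) := by
      intro a r
      have hm := (mem_zpowers_map_iff (MulAut.conj (c a)).toMonoidHom (MulAut.conj (c a)).injective
        z (r.1.1 * r.1.2)).2 r.2.2.2
      rw [← hc a]
      simpa using hm
    have hw2 : ∀ a : K, orderOf a.1 = 2 := fun a => Invol.orderOf_eq_two_of_isConj a.2 hz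
    have h1 := (Invol.eq_half_pow_of_mem_zpowers (hw2 w) (hpow w q)).2
    have h2 := (Invol.eq_half_pow_of_mem_zpowers (hw2 w') (hpow w' q')).2
    rw [← e1, ← e2, ← h1] at h2
    obtain rfl : w = w' := Subtype.ext h2.symm
    refine Prod.ext rfl (Subtype.ext (Prod.ext ?_ ?_))
    · exact mul_left_cancel (mul_right_cancel e1)
    · exact mul_left_cancel (mul_right_cancel e2)
  have h := Nat.card_le_card_of_injective f hf
  rw [Nat.card_prod, Nat.card_prod] at h
  have hpos : 0 < Nat.card K := by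
    haveI : Nonempty K := ⟨⟨z, IsConj.refl z⟩⟩
    exact Nat.card_pos
  exact Nat.le_of_mul_le_mul_left h hpos

end Cfsg.Agent.M12Cent
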