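import Cfsg.Agent.M12Cent.Fusion
import Cfsg.Agent.M12Cent.Pairs
import Cfsg.Agent.S1875

/-!
The centralizer of the second kind of involution: its Sylow 2-subgroup and the order formula.
-/

set_option autoImplicit false
set_option maxRecDepth 8000

namespace Cfsg.Agent.M12Cent

universe u

variable {G : Type u} [Group G]

/-- The centralizer of `bM` in the model. -/
abbrev WM : Subgroup M := Subgroup.centralizer ({M.bM} : Set M)

theorem card_WM : Nat.card WM = 16 := by
  rw [← M.card_cent.2.1, ← Fintype.card_subtype, ← Nat.card_eq_fintype_card]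
  exact Nat.card_congr (Equiv.subtypeEquivRight fun x => Subgroup.mem_centralizer_singleton_iff)

namespace Emb

variable {z : G} (h : Emb z)
include h

theorem mem_WM {x : M} : x ∈ WM ↔ h.ι x * h.ι M.bM = h.ι M.bM * h.ι x :=
  Subgroup.mem_centralizer_singleton_iff.trans (h.comm_iff _ _).symm

theorem hb : orderOf (h.ι M.bM) = 2 := h.ord _ (by rw [M.ty_rep.2.2.1]; norm_num)

/-- The inclusion of the centralizer in the model into the centralizer of `b`. -/
def jW : WM →* Subgroup.centralizer ({h.ι M.bM} : Set G) :=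
  (h.ι.comp WM.subtype).codRestrict _ fun x =>
    Subgroup.mem_centralizer_singleton_iff.2 (h.mem_WM.1 x.2)

theorem jW_coe (x : WM) : ((h.jW x : Subgroup.centralizer ({h.ι M.bM} : Set G)) : G) = h.ι x := rfl

theorem jW_inj : Function.Injective h.jW := fun x y e =>
  Subtype.ext (h.inj (congrArg Subtype.val e))

theorem mem_jW {l : Subgroup.centralizer ({h.ι M.bM} : Set G)} :
    l ∈ h.jW.range ↔ (l : G) * z = z * (l : G) := by
  constructor
  · rintro ⟨x, rfl⟩
    exact h.comm _
  · intro hl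
    obtain ⟨x, hx⟩ := h.mem_range hl
    refine ⟨⟨x, h.mem_WM.2 ?_⟩, Subtype.ext hx⟩
    rw [hx]
    exact Subgroup.mem_centralizer_singleton_iff.1 l.2

theorem card_jW : Nat.card h.jW.range = 16 := by
  rw [← Nat.card_congr (MonoidHom.ofInjective h.jW_inj).toEquiv, card_WM]

variable [Finite G]

/-- The centralizer in the model is a Sylow 2-subgroup of the centralizer of `b`. -/
theorem sylow_jW : ∃ S : Sylow 2 (Subgroup.centralizer ({h.ι M.bM} : Set G)),
    (S : Subgroup _) = h.jW.range := by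
  haveI : Fact (Nat.Prime 2) := ⟨Nat.prime_two⟩
  set L := Subgroup.centralizer ({h.ι M.bM} : Set G)
  obtain ⟨P, hP⟩ := (IsPGroup.of_card (p := 2) (n := 4) (by rw [h.card_jW]; norm_num) :
    IsPGroup 2 h.jW.range).exists_le_sylow
  refine ⟨P, le_antisymm ?_ hP⟩
  by_contra hne
  set H := h.jW.range.subgroupOf (P : Subgroup L)
  have hH : H < ⊤ := lt_top_iff_ne_top.2 fun e => hne (Subgroup.subgroupOf_eq_top.1 e)
  haveI := P.2.isNilpotent
  have hlt := Group.normalizerCondition_of_isNilpotent (G := ↥(P : Subgroup L)) H hH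
  obtain ⟨n, hn, hnH⟩ := SetLike.exists_of_lt hlt
  have hnorm := Subgroup.mem_normalizer_iff.1 hn
  refine hnH (Subgroup.mem_subgroupOf.2 (h.mem_jW.2 ?_))
  obtain ⟨p, q, hp, hq, hpq⟩ := M.comm_bM.2
  have hconj : ∀ x : M, x * M.bM = M.bM * x → ∃ x' : M, x' * M.bM = M.bM * x' ∧
      h.ι x' = ((n : L) : G) * h.ι x * ((n : L) : G)⁻¹ := by
    intro x hx
    have hxr : h.jW ⟨x, Subgroup.mem_centralizer_singleton_iff.2 hx⟩ ∈ h.jW.range := ⟨_, rfl⟩
    have := (hnorm ⟨_, hP hxr⟩).1 (Subgroup.mem_subgroupOf.2 hxr)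
    obtain ⟨w, hw⟩ := Subgroup.mem_subgroupOf.1 this
    exact ⟨w.1, Subgroup.mem_centralizer_singleton_iff.1 w.2, congrArg Subtype.val hw⟩
  obtain ⟨p', hpb, hp'⟩ := hconj p hp
  obtain ⟨q', hqb, hq'⟩ := hconj q hq
  set g := ((n : L) : G)
  have hc : h.ι (p' * q' * p'⁻¹ * q'⁻¹) = g * z * g⁻¹ := by
    have e : g * z * g⁻¹ = g * h.ι M.zM * g⁻¹ := by rw [h.ι_z]
    rw [map_mul, map_mul, map_mul, map_inv, map_inv, hp', hq', e, ← hpq, map_mul, map_mul, map_mul,
      map_inv, map_inv]
    group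
  rcases M.comm_bM.1 p' q' hpb hqb with e | e
  · exfalso
    rw [show p' * q' * p'⁻¹ * q'⁻¹ = 1 by rw [e]; group, map_one, eq_comm, conj_eq_one_iff] at hc
    have := h.hz
    rw [hc, orderOf_one] at this
    omega
  · rw [e, h.ι_z] at hc
    exact mul_inv_eq_iff_eq_mul.1 hc.symm

/-- Sylow: involutions of the centralizer of `b` go into the model. -/
theorem conj_into_W {l : G} (hl : orderOf l = 2) (hlb : l * h.ι M.bM = h.ι M.bM * l) :
    ∃ (c : G) (x : M), c * h.ι M.bM = h.ι M.bM * c ∧ x * M.bM = M.bM * x ∧ M.ty x ≠ 0 ∧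
      c * l * c⁻¹ = h.ι x := by
  haveI : Fact (Nat.Prime 2) := ⟨Nat.prime_two⟩
  set L := Subgroup.centralizer ({h.ι M.bM} : Set G)
  obtain ⟨S, hS⟩ := h.sylow_jW
  let l' : L := ⟨l, Subgroup.mem_centralizer_singleton_iff.2 hlb⟩
  have hl' : orderOf l' = 2 := by rw [Subgroup.orderOf_mk, hl]
  obtain ⟨P, hP⟩ := (IsPGroup.of_card (p := 2) (n := 1) (by rw [Nat.card_zpowers, hl', pow_one]) :
    IsPGroup 2 (Subgroup.zpowers l')).exists_le_sylow
  obtain ⟨c, hc⟩ := MulAction.exists_smul_eq L P S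
  have : c * l' * c⁻¹ ∈ h.jW.range := by
    rw [← hS, ← hc, Sylow.coe_subgroup_smul]
    exact Subgroup.smul_mem_pointwise_smul l' (MulAut.conj c) _ (hP (Subgroup.mem_zpowers l'))
  obtain ⟨x, hx⟩ := this
  have hx' : h.ι x.1 = (c : G) * l * (c : G)⁻¹ := congrArg Subtype.val hx
  refine ⟨c, x.1, Subgroup.mem_centralizer_singleton_iff.1 c.2,
    Subgroup.mem_centralizer_singleton_iff.1 x.2, h.ty_ne_zero ?_, hx'.symm⟩
  rw [hx', Invol.orderOf_conj, hl]

variable [IsSimpleGroup G] (hna : ¬ IsMulCommutative G)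
include hna

/-- The conjugates of the central involution in the centralizer in the model. -/
theorem zclass_W {x : M} (hx : M.ty x ≠ 0) (hxb : x * M.bM = M.bM * x) (hc : IsConj z (h.ι x)) :
    x = M.zM ∨ x = M.aM ∨ x = M.aM * M.zM := by
  rcases M.inv_W x hx hxb with e | e
  · simp only [M.inE, decide_eq_true_eq] at e
    rcases e with e | e | e | e
    · exact absurd e ((M.ty_spec x).1.1 hx).2
    · exact Or.inl e
    · exact Or.inr (Or.inl e)
    · exact Or.inr (Or.inr e)
  · exact absurd (hc.trans (h.conj_three e).symm) h.not_conj_b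

/-- A commuting pair of the two classes is centralized by no nontrivial element of odd order. -/
theorem odd_fixed_trivial {p q x : G} (hp : IsConj z p) (hq : IsConj (h.ι M.bM) q)
    (hpq : q * p = p * q) (hxp : x * p = p * x) (hxq : x * q = q * x) (hodd : ¬ 2 ∣ orderOf x) :
    x = 1 := by
  obtain ⟨g, hg⟩ := isConj_iff.1 hp.symm
  have conjc : ∀ a b : G, a * b = b * a →
      (g * a * g⁻¹) * (g * b * g⁻¹) = (g * b * g⁻¹) * (g * a * g⁻¹) := fun a b e => by
    rw [show g * a * g⁻¹ * (g * b * g⁻¹) = g * (a * b) * g⁻¹ by group, e]; group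
  have c1 := conjc q p hpq
  rw [hg] at c1
  have hqo : orderOf q = 2 := Invol.orderOf_eq_two_of_isConj hq h.hb
  obtain ⟨y, hy, hye⟩ := h.lift (g := g * q * g⁻¹) (by rw [Invol.orderOf_conj, hqo]) c1
  have c2 := conjc x p hxp
  rw [hg] at c2
  obtain ⟨w, hw⟩ := h.mem_range c2
  have hwy : w * y = y * w := (h.comm_iff _ _).1 (by rw [hw, hye]; exact conjc x q hxq)
  have hyz : y ≠ M.zM := by
    rintro rfl
    rw [h.ι_z] at hye
    exact h.not_conj_b ((IsConj.symm hq).symm.trans (isConj_iff.2 ⟨g, hye.symm⟩)).symm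
  have hexp : ∀ y : M, M.ty y ≠ 0 → y ≠ M.zM → ∀ w : M, w * y = y * w → w ^ 8 = 1 := by
    decide +kernel
  have h8 := congrArg h.ι (hexp y hy hyz w hwy)
  rw [map_pow, map_one, hw] at h8
  have hd : orderOf (g * x * g⁻¹) ∣ 8 := orderOf_dvd_of_pow_eq_one h8
  rw [Invol.orderOf_conj] at hd
  have hmem : orderOf x ∈ Nat.divisors 8 := Nat.mem_divisors.2 ⟨hd, by norm_num⟩
  rw [show Nat.divisors 8 = {1, 2, 4, 8} from by decide] at hmem
  simp only [Finset.mem_insert, Finset.mem_singleton] at hmem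
  rcases hmem with e | e | e | e
  · exact orderOf_eq_one_iff.1 e
  all_goals exfalso; rw [e] at hodd; exact hodd (by norm_num)

/-- The order formula of the group. -/
theorem order_formula :
    Nat.card G = Nat.card (Subgroup.centralizer ({h.ι M.bM} : Set G)) *
        Nat.card {q : G × G // IsConj z q.1 ∧ IsConj (h.ι M.bM) q.2 ∧ z ∈ Subgroup.zpowers (q.1 * q.2)} +
      192 * Nat.card {q : G × G // IsConj z q.1 ∧ IsConj (h.ι M.bM) q.2 ∧
        h.ι M.bM ∈ Subgroup.zpowers (q.1 * q.2)} := by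
  classical
  have hne : z ≠ h.ι M.bM := fun e => h.not_conj_b (by rw [← e])
  have hf := S1875.result z (h.ι M.bM) h.hz h.hb h.not_conj_b {z, h.ι M.bM}
    (fun w hw => by
      simp only [Finset.mem_insert, Finset.mem_singleton] at hw
      rcases hw with rfl | rfl
      exacts [h.hz, h.hb])
    (fun t ht => by
      rcases h.two_classes hna ht with hc | hc
      · refine ⟨z, by simp, hc, fun w' hw' hc' => ?_⟩
        simp only [Finset.mem_insert, Finset.mem_singleton] at hw'
        rcases hw' with e | e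
        · exact e
        · rw [e] at hc'; exact absurd (hc.symm.trans hc') h.not_conj_b
      · refine ⟨h.ι M.bM, by simp, hc, fun w' hw' hc' => ?_⟩
        simp only [Finset.mem_insert, Finset.mem_singleton] at hw'
        rcases hw' with e | e
        · rw [e] at hc'; exact absurd (hc'.symm.trans hc) h.not_conj_b
        · exact e)
  rw [Finset.sum_pair hne, h.card_cent] at hf
  have hcb : (Nat.card (Subgroup.centralizer ({h.ι M.bM} : Set G)) : ℚ) ≠ 0 := by
    exact_mod_cast Nat.card_pos.ne'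
  field_simp at hf
  have : (Nat.card G : ℚ) = ((Nat.card (Subgroup.centralizer ({h.ι M.bM} : Set G)) *
        Nat.card {q : G × G // IsConj z q.1 ∧ IsConj (h.ι M.bM) q.2 ∧ z ∈ Subgroup.zpowers (q.1 * q.2)} +
      192 * Nat.card {q : G × G // IsConj z q.1 ∧ IsConj (h.ι M.bM) q.2 ∧
        h.ι M.bM ∈ Subgroup.zpowers (q.1 * q.2)} : ℕ) : ℚ) := by
    push_cast at hf ⊢
    linarith
  exact_mod_cast this

end Emb

end Cfsg.Agent.M12Cent
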