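import Cfsg.Agent.M12Cent.Model

/-!
Finite facts about the model of the centralizer of a 2-central involution of the Mathieu group of
degree twelve, all checked by evaluation.
-/

set_option autoImplicit false
set_option maxRecDepth 8000
set_option synthInstance.maxSize 1000

namespace Cfsg.Agent.M12Cent

open Cfsg.Agent.Compute

namespace M

/-- The central involution. -/
def zM : M := mk' 168

/-- An involution with centralizer of order 32. -/
def aM : M := mk' 24

/-- An involution with centralizer of order 16, commuting with `aM`. -/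
def bM : M := mk' 23

/-- An involution with centralizer of order 8. -/
def cM : M := mk' 2

/-- An element of order 4 commuting with `bM`. -/
def rM : M := mk' 31

/-- The kind of an involution: 1 central, 2, 3, 4 for centralizers of order 32, 16, 8. -/
def ty (x : M) : ℕ := getField 3 tyTab x.v.1

/-- Membership in the chosen Sylow 2-subgroup. -/
def inS (x : M) : Bool := Nat.beq (getField 1 sylTab x.v.1) 1

/-- Membership in the normal subgroup of order 32. -/
def inQ (x : M) : Bool := Nat.beq (getField 1 qTab x.v.1) 1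

/-- Membership in the four-group of `zM` and `aM`. -/
def inE (x : M) : Bool := decide (x = 1 ∨ x = zM ∨ x = aM ∨ x = aM * zM)

/-- `w` is a power of `p`. -/
def hit (w p : M) : Bool := (List.range 24).any fun k => decide (p ^ k = w)

theorem pow_exp : ∀ p : M, p ^ 24 = 1 := by decide +kernel

theorem hit_iff {w p : M} : hit w p = true ↔ w ∈ Subgroup.zpowers p := by
  simp only [hit, List.any_eq_true, List.mem_range, decide_eq_true_eq]
  constructor
  · rintro ⟨k, -, rfl⟩
    exact pow_mem (Subgroup.mem_zpowers p) k
  · intro h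
    obtain ⟨k, rfl⟩ := mem_powers_iff_mem_zpowers.2 h
    refine ⟨k % 24, Nat.mod_lt _ (by norm_num), ?_⟩
    show p ^ (k % 24) = p ^ k
    conv_rhs => rw [← Nat.mod_add_div k 24, pow_add, pow_mul, pow_exp, one_pow, mul_one]

theorem ty_spec : ∀ x : M, (ty x ≠ 0 ↔ x * x = 1 ∧ x ≠ 1) ∧ ty x ≤ 4 := by decide +kernel

theorem ty_rep : ty zM = 1 ∧ ty aM = 2 ∧ ty bM = 3 ∧ ty cM = 4 ∧ ty (aM * zM) = 2 := by
  decide +kernel

theorem ty_one : ∀ x : M, ty x = 1 → x = zM := by decide +kernel

theorem ty_two : ∀ x : M, ty x = 2 → ∃ h : M, h * aM * h⁻¹ = x := by decide +kernel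

theorem ty_three : ∀ x : M, ty x = 3 → ∃ h : M, h * bM * h⁻¹ = x := by decide +kernel

theorem ty_four : ∀ x : M, ty x = 4 → ∃ h : M, h * cM * h⁻¹ = x := by decide +kernel

theorem card_cent :
    (Finset.univ.filter fun y : M => y * aM = aM * y).card = 32 ∧
    (Finset.univ.filter fun y : M => y * bM = bM * y).card = 16 ∧
    (Finset.univ.filter fun y : M => y * cM = cM * y).card = 8 := by decide +kernel

theorem zM_central : ∀ x : M, x * zM = zM * x := by decide +kernel

theorem center_eq : ∀ x : M, (∀ y : M, x * y = y * x) → x = 1 ∨ x = zM := by decide +kernel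

theorem bM_aM : bM * aM = aM * bM := by decide +kernel

theorem inS_spec : inS 1 = true ∧ inS zM = true ∧
    (∀ x y : M, inS x = true → inS y = true → inS (x * y) = true) ∧
    (Finset.univ.filter fun y : M => inS y = true).card = 64 := by decide +kernel

theorem inS_center : ∀ x : M, inS x = true → (∀ y : M, inS y = true → x * y = y * x) →
    x = 1 ∨ x = zM := by decide +kernel

theorem inQ_spec : inQ 1 = true ∧
    (∀ x y : M, inQ x = true → inQ y = true → inQ (x * y) = true) ∧
    (∀ x : M, inQ x = true → inS x = true) ∧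
    (Finset.univ.filter fun y : M => inQ y = true).card = 32 := by decide +kernel

theorem inQ_ty : ∀ x : M, inQ x = true → ty x ≠ 4 := by decide +kernel

theorem inS_four : ∃ x : M, inS x = true ∧ inQ x = false ∧ ty x = 4 := by decide +kernel

theorem comm_bM : (∀ p q : M, p * bM = bM * p → q * bM = bM * q →
      p * q = q * p ∨ p * q * p⁻¹ * q⁻¹ = zM) ∧
    ∃ p q : M, p * bM = bM * p ∧ q * bM = bM * q ∧ p * q * p⁻¹ * q⁻¹ = zM := by decide +kernel

theorem pair_cM : ∀ p q : M, p * cM = cM * p → q * cM = cM * q → ty p ≠ 0 → ty q ≠ 0 →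
    p * q = cM → ty p = 4 ∨ ty q = 4 := by decide +kernel

theorem swap_aM : ∃ h : M, h * aM * h⁻¹ = aM * zM := by decide +kernel

theorem trans_bM : ∀ x : M, ty x = 3 → x * aM = aM * x →
    ∃ h : M, h * aM = aM * h ∧ h * bM * h⁻¹ = x := by decide +kernel

theorem coset_A : (∀ q q' : M, ty q = 2 → ty q' = 2 → q * aM = aM * q → q' * aM = aM * q' →
      inE q = false → inE q' = false → inE (q⁻¹ * q') = true) ∧
    (∀ q : M, ty q = 2 → q * aM = aM * q → inE q = false → bM * q * bM⁻¹ * q⁻¹ = zM) ∧
    ∃ q : M, ty q = 2 ∧ q * aM = aM * q ∧ inE q = false := by decide +kernel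

theorem inv_W : ∀ x : M, ty x ≠ 0 → x * bM = bM * x →
    inE x = true ∨ ty x = 3 := by decide +kernel

theorem swap_W : ∃ h : M, h * bM = bM * h ∧ h * aM * h⁻¹ = aM * zM := by decide +kernel

theorem dihedral_W : rM * rM = zM ∧ rM ^ 4 = 1 ∧ rM * bM = bM * rM ∧
    aM * rM * aM⁻¹ = rM⁻¹ ∧ ty (aM * rM) = 3 ∧ ty (aM * (rM * bM)) = 3 ∧
    aM * aM = 1 ∧ bM * bM = 1 ∧ zM * zM = 1 ∧
    (∀ x : M, x * bM = bM * x → ∃ i < 4, x = rM ^ i ∨ x = aM * rM ^ i ∨
      x = bM * rM ^ i ∨ x = bM * (aM * rM ^ i)) := by decide +kernel

/-- The pairs of a class `P` and a class `P'` whose product has `w` among its powers. -/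
def pairs (P P' : M → Bool) (w : M) : ℕ :=
  (Finset.univ.filter fun q : M × M => (P q.1 && P' q.2 && hit w (q.1 * q.2)) = true).card

/-- The class of the central involution in the first case. -/
def zOne (x : M) : Bool := decide (ty x = 1 ∨ ty x = 2 ∨ ty x = 4)

/-- The other class in the first case. -/
def bOne (x : M) : Bool := decide (ty x = 3)

/-- The class of the central involution in the second case. -/
def zTwo (x : M) : Bool := decide (ty x = 1 ∨ ty x = 2)

/-- The other class in the second case. -/
def bTwo (x : M) : Bool := decide (ty x = 3 ∨ ty x = 4)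

/-- The central class, within the centralizer of `bM`. -/
def zW (x : M) : Bool := zTwo x && decide (x * bM = bM * x)

/-- The other class, within the centralizer of `bM`. -/
def bW (x : M) : Bool := bTwo x && decide (x * bM = bM * x)

theorem pairs_one : pairs zOne bOne zM = 240 := by decide +kernel

theorem pairs_one_same : pairs zOne zOne zM = 318 := by decide +kernel

theorem pairs_two : pairs zTwo bTwo zM = 48 := by decide +kernel

theorem pairs_W : pairs zW bW bM = 3 := by decide +kernel

end M

end Cfsg.Agent.M12Cent
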