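import Cfsg.Agent.M12Cent.Setting

/-!
Fusion of involutions in a simple group with the centralizer of an involution isomorphic to the
model.
-/

set_option autoImplicit false
set_option maxRecDepth 8000

namespace Cfsg.Agent.M12Cent

universe u

variable {G : Type u} [Group G]

namespace Emb

variable {z : G} (h : Emb z)
include h

theorem za : h.ι M.aM * z = z * h.ι M.aM := h.comm _

theorem ι_az : h.ι (M.aM * M.zM) = h.ι M.aM * z := by rw [map_mul, h.ι_z]

theorem exists_pair : ∃ p q : M, M.ty p = 2 ∧ M.ty q = 2 ∧ p * M.cM = M.cM * p ∧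
    q * M.cM = M.cM * q ∧ p * q = M.zM := by
  decide +kernel

theorem lift_conj {g : G} {x w : M} (hg : g * h.ι x * g⁻¹ = z) (hw : w * x = x * w) {y : M}
    (hy : h.ι y = g * z * g⁻¹) : ∃ w' : M, h.ι w' = g * h.ι w * g⁻¹ ∧ w' * y = y * w' := by
  have c := (h.comm_iff _ _).2 hw
  have c' : g * h.ι w * g⁻¹ * z = z * (g * h.ι w * g⁻¹) := by
    calc g * h.ι w * g⁻¹ * z = g * h.ι w * g⁻¹ * (g * h.ι x * g⁻¹) := by rw [hg]
      _ = g * (h.ι w * h.ι x) * g⁻¹ := by group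
      _ = (g * h.ι x * g⁻¹) * (g * h.ι w * g⁻¹) := by rw [c]; group
      _ = z * (g * h.ι w * g⁻¹) := by rw [hg]
  obtain ⟨w', hw'⟩ := h.mem_range c'
  refine ⟨w', hw', (h.comm_iff _ _).1 ?_⟩
  rw [hw', hy, show g * h.ι w * g⁻¹ * (g * z * g⁻¹) = g * (h.ι w * z) * g⁻¹ by group, h.comm w]
  group

/-- The first non-central class is not fused with the central involution. -/
theorem not_conj_b : ¬ IsConj z (h.ι M.bM) := by
  intro hc
  obtain ⟨g, hg⟩ := isConj_iff.1 hc.symm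
  obtain ⟨y, hy, hye, hcard⟩ := h.partner hg
  rw [M.card_cent.2.1] at hcard
  have hy3 := (h.ty_of_card hy).2.1 hcard
  obtain ⟨p, q, hp, hq, hpq⟩ := M.comm_bM.2
  have hlift : ∀ w : M, w * M.bM = M.bM * w →
      ∃ w' : M, h.ι w' = g * h.ι w * g⁻¹ ∧ w' * y = y * w' := fun w hw => h.lift_conj hg hw hye
  obtain ⟨p', hp', hpy⟩ := hlift p hp
  obtain ⟨q', hq', hqy⟩ := hlift q hq
  have hy' : p' * q' * p'⁻¹ * q'⁻¹ = y := by
    apply h.inj
    have e : g * z * g⁻¹ = g * h.ι M.zM * g⁻¹ := by rw [h.ι_z]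
    rw [map_mul, map_mul, map_mul, map_inv, map_inv, hp', hq', hye, e, ← hpq, map_mul,
      map_mul, map_mul, map_inv, map_inv]
    group
  obtain ⟨c, hc⟩ := M.ty_three y hy3
  have hcomm : ∀ w : M, w * y = y * w → (c⁻¹ * w * c) * M.bM = M.bM * (c⁻¹ * w * c) := by
    intro w hw
    calc c⁻¹ * w * c * M.bM = c⁻¹ * (w * (c * M.bM * c⁻¹)) * c := by group
      _ = c⁻¹ * ((c * M.bM * c⁻¹) * w) * c := by rw [hc, hw]
      _ = M.bM * (c⁻¹ * w * c) := by group
  rcases M.comm_bM.1 _ _ (hcomm p' hpy) (hcomm q' hqy) with e | e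
  · have e' : p' * q' = q' * p' := by
      rw [show c⁻¹ * p' * c * (c⁻¹ * q' * c) = c⁻¹ * (p' * q') * c by group,
        show c⁻¹ * q' * c * (c⁻¹ * p' * c) = c⁻¹ * (q' * p') * c by group] at e
      exact mul_left_cancel (mul_right_cancel e)
    rw [show p' * q' * p'⁻¹ * q'⁻¹ = 1 by rw [e']; group] at hy'
    exact ((M.ty_spec y).1.1 hy).2 hy'.symm
  · have e' : y = c * M.zM * c⁻¹ := by rw [← hy', ← e]; group
    rw [M.zM_central c, mul_inv_cancel_right] at e'
    rw [e', M.ty_rep.1] at hy3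
    omega

variable [Finite G] [IsSimpleGroup G] (hna : ¬ IsMulCommutative G)
include hna

omit h in
theorem no_index_two (N : Subgroup G) (hN : N.Normal) (h2 : N.index = 2) : False := by
  rcases hN.eq_bot_or_eq_top with e | e
  · subst e
    rw [Subgroup.index_bot] at h2
    haveI : Fact (Nat.Prime 2) := ⟨Nat.prime_two⟩
    exact hna (isCyclic_of_prime_card h2).isMulCommutative
  · subst e
    rw [Subgroup.index_top] at h2
    omega

/-- The central involution is fused with the class with centralizers of order 32. -/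
theorem conj_a : IsConj z (h.ι M.aM) := by
  classical
  by_contra hza
  have hnot : ¬ IsConj z (h.ι M.cM) := by
    intro hc
    obtain ⟨g, hg⟩ := isConj_iff.1 hc.symm
    obtain ⟨y, hy, hye, hcard⟩ := h.partner hg
    rw [M.card_cent.2.2] at hcard
    have hy4 := (h.ty_of_card hy).2.2 hcard
    obtain ⟨p, q, hp2, hq2, hp, hq, hpq⟩ := h.exists_pair
    have hlift : ∀ w : M, w * M.cM = M.cM * w →
        ∃ w' : M, h.ι w' = g * h.ι w * g⁻¹ ∧ w' * y = y * w' := fun w hw => h.lift_conj hg hw hye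
    obtain ⟨p', hp', hpy⟩ := hlift p hp
    obtain ⟨q', hq', hqy⟩ := hlift q hq
    have hty : ∀ w w' : M, h.ι w' = g * h.ι w * g⁻¹ → M.ty w = 2 → M.ty w' ≠ 0 := by
      intro w w' e e2
      refine h.ty_ne_zero ?_
      rw [e, Invol.orderOf_conj]
      exact h.ord w (by omega)
    obtain ⟨c, hc'⟩ := M.ty_four y hy4
    have hcomm : ∀ w : M, w * y = y * w → (c⁻¹ * w * c) * M.cM = M.cM * (c⁻¹ * w * c) := by
      intro w hw
      calc c⁻¹ * w * c * M.cM = c⁻¹ * (w * (c * M.cM * c⁻¹)) * c := by group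
        _ = c⁻¹ * ((c * M.cM * c⁻¹) * w) * c := by rw [hc', hw]
        _ = M.cM * (c⁻¹ * w * c) := by group
    have hty' : ∀ w : M, M.ty w ≠ 0 → M.ty (c⁻¹ * w * c) ≠ 0 := fun w hw => h.ty_ne_zero (by
      rw [map_mul, map_mul, map_inv]
      simpa using (Invol.orderOf_conj (h.ι c)⁻¹ (h.ι w)).trans (h.ord w hw))
    have hprod : (c⁻¹ * p' * c) * (c⁻¹ * q' * c) = M.cM := by
      have e : p' * q' = y := by
        apply h.inj
        have e : g * z * g⁻¹ = g * h.ι M.zM * g⁻¹ := by rw [h.ι_z]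
        rw [map_mul, hp', hq', hye, e, ← hpq, map_mul]
        group
      rw [show c⁻¹ * p' * c * (c⁻¹ * q' * c) = c⁻¹ * (p' * q') * c by group, e, ← hc']
      group
    have key : ∀ w w' : M, h.ι w' = g * h.ι w * g⁻¹ → M.ty w = 2 →
        M.ty (c⁻¹ * w' * c) = 4 → False := by
      intro w w' e e2 e4
      refine hza (hc.trans ?_)
      refine ((h.conj_four e4).trans ?_).trans (h.conj_two e2).symm
      have h1 : IsConj (h.ι (c⁻¹ * w' * c)) (h.ι w') :=
        isConj_iff.2 ⟨h.ι c, by simp [mul_assoc]⟩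
      have h2 : IsConj (h.ι w') (h.ι w) := isConj_iff.2 ⟨g⁻¹, by rw [e]; group⟩
      exact h1.trans h2
    rcases M.pair_cM _ _ (hcomm p' hpy) (hcomm q' hqy) (hty' _ (hty p p' hp' hp2))
      (hty' _ (hty q q' hq' hq2)) hprod with e | e
    · exact key p p' hp' hp2 e
    · exact key q q' hq' hq2 e
  have hiso : Cfsg.IsIsolatedInvolution z := by
    refine ⟨h.hz, fun g hcomm => ?_⟩
    obtain ⟨y, hy, hye⟩ := h.lift (by rw [Invol.orderOf_conj, h.hz]) hcomm.eq.symm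
    have hyc : IsConj z (h.ι y) := isConj_iff.2 ⟨g, hye.symm⟩
    have h4 := (M.ty_spec y).2
    have h5 : M.ty y = 1 ∨ M.ty y = 2 ∨ M.ty y = 3 ∨ M.ty y = 4 := by omega
    rcases h5 with e | e | e | e
    · rw [← hye, M.ty_one y e, h.ι_z]
    · exact absurd (hyc.trans (h.conj_two e).symm) hza
    · exact absurd (hyc.trans (h.conj_three e).symm) h.not_conj_b
    · exact absurd (hyc.trans (h.conj_four e).symm) hnot
  have hO : Cfsg.oddCore G = ⊥ := by
    haveI : (Cfsg.oddCore G).Normal := inferInstance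
    rcases Subgroup.Normal.eq_bot_or_eq_top (inferInstance : (Cfsg.oddCore G).Normal) with e | e
    · exact e
    · exfalso
      refine Core.not_dvd_card_pPrimeCore (p := 2) (G := G) ?_
      show 2 ∣ Nat.card (Cfsg.oddCore G)
      rw [e, Subgroup.card_top, ← h.hz]
      exact orderOf_dvd_natCard z
  have hz : z ∈ Subgroup.center G := by
    refine Subgroup.mem_center_iff.2 fun g => ?_
    have := Invol.zstar hiso g
    rw [hO, Subgroup.mem_bot, mul_inv_eq_one, mul_inv_eq_iff_eq_mul] at this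
    exact this.symm
  rcases Subgroup.Normal.eq_bot_or_eq_top (inferInstance : (Subgroup.center G).Normal) with e | e
  · rw [e, Subgroup.mem_bot] at hz
    have := h.hz
    rw [hz, orderOf_one] at this
    omega
  · refine hna ⟨⟨fun a b => ?_⟩⟩
    exact Subgroup.mem_center_iff.1 (e ▸ Subgroup.mem_top b : b ∈ Subgroup.center G) a

/-- The involutions outside the normal subgroup of order 32 are fused into it. -/
theorem cases : IsConj z (h.ι M.cM) ∨ IsConj (h.ι M.bM) (h.ι M.cM) := by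
  classical
  obtain ⟨S, hS⟩ := h.exists_sylow
  let Q : Subgroup G :=
    { carrier := {g | ∃ x, M.inQ x = true ∧ h.ι x = g}
      mul_mem' := by
        rintro _ _ ⟨x, hx, rfl⟩ ⟨y, hy, rfl⟩
        exact ⟨x * y, M.inQ_spec.2.1 x y hx hy, map_mul _ _ _⟩
      one_mem' := ⟨1, M.inQ_spec.1, map_one _⟩
      inv_mem' := by
        rintro _ ⟨x, hx, rfl⟩
        have hh : ∀ y : M, M.inQ y = true → M.inQ y⁻¹ = true := by decide +kernel
        exact ⟨x⁻¹, hh x hx, map_inv _ _⟩ }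
  have hQ32 : Nat.card Q = 32 := by
    rw [← M.inQ_spec.2.2.2, ← Fintype.card_subtype, ← Nat.card_eq_fintype_card]
    refine (Nat.card_congr (Equiv.ofBijective
      (fun x : {x : M // M.inQ x = true} => (⟨h.ι x.1, x.1, x.2, rfl⟩ : Q)) ⟨?_, ?_⟩)).symm
    · intro a b hab
      exact Subtype.ext (h.inj (congrArg Subtype.val hab))
    · rintro ⟨_, x, hx, rfl⟩
      exact ⟨⟨x, hx⟩, rfl⟩
  have hQS : Q ≤ (S : Subgroup G) := by
    rw [hS]; rintro _ ⟨x, hx, rfl⟩; exact ⟨x, M.inQ_spec.2.2.1 x hx, rfl⟩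
  have hrel : Q.relIndex (S : Subgroup G) = 2 := by
    have h1 := (Q.subgroupOf (S : Subgroup G)).card_mul_index
    rw [Nat.card_congr (Subgroup.subgroupOfEquivOfLe hQS).toEquiv, hQ32, hS, h.card_sylSub] at h1
    show (Q.subgroupOf (S : Subgroup G)).index = 2
    rw [hS]; omega
  obtain ⟨x, hxS, hxQ, hx4⟩ := M.inS_four
  have hnQ : h.ι x ∉ Q := by
    rintro ⟨y, hy, hye⟩
    rw [h.inj hye, hxQ] at hy
    exact Bool.false_ne_true hy
  rcases S0111.result S Q hQS hrel (h.ι x) (h.ord x (by omega))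
      (by rw [hS]; exact ⟨x, hxS, rfl⟩) hnQ with ⟨N, hN, hN2, -⟩ | ⟨g, y, hy, hye⟩
  · exact (no_index_two hna N hN hN2).elim
  have hc : IsConj (h.ι M.cM) (h.ι y) := (h.conj_four hx4).trans (isConj_iff.2 ⟨g, hye.symm⟩)
  have hy0 : M.ty y ≠ 0 :=
    h.ty_ne_zero (by rw [hye, Invol.orderOf_conj]; exact h.ord x (by omega))
  have h4 := (M.ty_spec y).2
  have h5 := M.inQ_ty y hy
  have h6 : M.ty y = 1 ∨ M.ty y = 2 ∨ M.ty y = 3 := by omega
  rcases h6 with e | e | e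
  · left; rw [M.ty_one y e, h.ι_z] at hc; exact hc.symm
  · exact Or.inl ((h.conj_a hna).trans ((h.conj_two e).trans hc.symm))
  · exact Or.inr ((h.conj_three e).trans hc.symm)

omit hna in
theorem excl (h1 : IsConj z (h.ι M.cM)) : ¬ IsConj (h.ι M.bM) (h.ι M.cM) := fun h2 =>
  h.not_conj_b (h1.trans h2.symm)

/-- The classes in the first case. -/
theorem class_one (hI : IsConj z (h.ι M.cM)) {x : M} (hx : M.ty x ≠ 0) :
    (IsConj z (h.ι x) ↔ M.zOne x = true) ∧ (IsConj (h.ι M.bM) (h.ι x) ↔ M.bOne x = true) := by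
  simp only [M.zOne, M.bOne, decide_eq_true_eq]
  have h4 := (M.ty_spec x).2
  have h5 : M.ty x = 1 ∨ M.ty x = 2 ∨ M.ty x = 3 ∨ M.ty x = 4 := by omega
  rcases h5 with e | e | e | e
  · rw [M.ty_one x e, h.ι_z]
    simp only [M.ty_rep.1]
    exact ⟨iff_of_true (IsConj.refl z) (Or.inl trivial),
      iff_of_false (fun h' => h.not_conj_b h'.symm) (by norm_num)⟩
  · have hc := (h.conj_a hna).trans (h.conj_two e)
    exact ⟨iff_of_true hc (Or.inr (Or.inl e)),
      iff_of_false (fun h' => h.not_conj_b (hc.trans h'.symm)) (by omega)⟩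
  · have hc := h.conj_three e
    exact ⟨iff_of_false (fun h' => h.not_conj_b (h'.trans hc.symm)) (by omega), iff_of_true hc e⟩
  · have hc := hI.trans (h.conj_four e)
    exact ⟨iff_of_true hc (Or.inr (Or.inr e)),
      iff_of_false (fun h' => h.not_conj_b (hc.trans h'.symm)) (by omega)⟩

/-- The classes in the second case. -/
theorem class_two (hII : IsConj (h.ι M.bM) (h.ι M.cM)) {x : M} (hx : M.ty x ≠ 0) :
    (IsConj z (h.ι x) ↔ M.zTwo x = true) ∧ (IsConj (h.ι M.bM) (h.ι x) ↔ M.bTwo x = true) := by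
  simp only [M.zTwo, M.bTwo, decide_eq_true_eq]
  have h4 := (M.ty_spec x).2
  have h5 : M.ty x = 1 ∨ M.ty x = 2 ∨ M.ty x = 3 ∨ M.ty x = 4 := by omega
  rcases h5 with e | e | e | e
  · rw [M.ty_one x e, h.ι_z]
    simp only [M.ty_rep.1]
    exact ⟨iff_of_true (IsConj.refl z) (Or.inl trivial),
      iff_of_false (fun h' => h.not_conj_b h'.symm) (by norm_num)⟩
  · have hc := (h.conj_a hna).trans (h.conj_two e)
    exact ⟨iff_of_true hc (Or.inr e),
      iff_of_false (fun h' => h.not_conj_b (hc.trans h'.symm)) (by omega)⟩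
  · have hc := h.conj_three e
    exact ⟨iff_of_false (fun h' => h.not_conj_b (h'.trans hc.symm)) (by omega),
      iff_of_true hc (Or.inl e)⟩
  · have hc := hII.trans (h.conj_four e)
    exact ⟨iff_of_false (fun h' => h.not_conj_b (h'.trans hc.symm)) (by omega),
      iff_of_true hc (Or.inr e)⟩

/-- Two classes of involutions. -/
theorem two_classes {g : G} (hg : orderOf g = 2) : IsConj g z ∨ IsConj g (h.ι M.bM) := by
  obtain ⟨x, hx, -, hc⟩ := h.conj_into hg
  have h4 := (M.ty_spec x).2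
  have h5 : M.ty x = 1 ∨ M.ty x = 2 ∨ M.ty x = 3 ∨ M.ty x = 4 := by omega
  rcases h5 with e | e | e | e
  · left; rwa [M.ty_one x e, h.ι_z] at hc
  · exact Or.inl (hc.trans ((h.conj_a hna).trans (h.conj_two e)).symm)
  · exact Or.inr (hc.trans (h.conj_three e).symm)
  · rcases h.cases hna with hI | hII
    · exact Or.inl (hc.trans (hI.trans (h.conj_four e)).symm)
    · exact Or.inr (hc.trans (hII.trans (h.conj_four e)).symm)

/-- An element permuting the four-group cyclically. -/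
theorem exists_cycle : ∃ g : G, g * z * g⁻¹ = h.ι M.aM ∧
    g * h.ι M.aM * g⁻¹ = h.ι M.aM * z := by
  obtain ⟨g, hg⟩ := isConj_iff.1 (h.conj_a hna).symm
  obtain ⟨y, hy, hye, hcard⟩ := h.partner hg
  rw [M.card_cent.1] at hcard
  obtain ⟨c, hc⟩ := M.ty_two y ((h.ty_of_card hy).1 hcard)
  obtain ⟨k, hk⟩ := M.swap_aM
  set s := (h.ι c)⁻¹ * g
  have hs1 : s * z * s⁻¹ = h.ι M.aM := by
    rw [show s * z * s⁻¹ = (h.ι c)⁻¹ * (g * z * g⁻¹) * h.ι c by simp only [s]; group, ← hye, ← hc,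
      map_mul, map_mul, map_inv]
    group
  have hs2 : s * h.ι M.aM * s⁻¹ = z := by
    rw [show s * h.ι M.aM * s⁻¹ = (h.ι c)⁻¹ * (g * h.ι M.aM * g⁻¹) * h.ι c by simp only [s]; group,
      hg, mul_assoc, ← h.comm c, inv_mul_cancel_left]
  have hk1 : h.ι k * z * (h.ι k)⁻¹ = z := by rw [h.comm k, mul_inv_cancel_right]
  have hk2 : h.ι k * h.ι M.aM * (h.ι k)⁻¹ = h.ι M.aM * z := by
    rw [← h.ι_az, ← hk, map_mul, map_mul, map_inv]
  refine ⟨s * h.ι k, ?_, ?_⟩
  · rw [show s * h.ι k * z * (s * h.ι k)⁻¹ = s * (h.ι k * z * (h.ι k)⁻¹) * s⁻¹ by group, hk1, hs1]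
  · rw [show s * h.ι k * h.ι M.aM * (s * h.ι k)⁻¹ = s * (h.ι k * h.ι M.aM * (h.ι k)⁻¹) * s⁻¹ by group,
      hk2, show s * (h.ι M.aM * z) * s⁻¹ = (s * h.ι M.aM * s⁻¹) * (s * z * s⁻¹) by group, hs1, hs2,
      h.za]

omit [Finite G] [IsSimpleGroup G] hna in
/-- An element commuting with the images of both `z` and `a` under a cycle lies in the centralizer. -/
theorem cycle_image {g : G} (h1 : g * z * g⁻¹ = h.ι M.aM)
    (h2 : g * h.ι M.aM * g⁻¹ = h.ι M.aM * z) {x : M} (hx : x * M.aM = M.aM * x)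
    (hx0 : M.ty x ≠ 0) :
    ∃ y : M, M.ty y ≠ 0 ∧ h.ι y = g * h.ι x * g⁻¹ ∧ y * M.aM = M.aM * y := by
  set a := h.ι M.aM
  have e1 : h.ι x * a = a * h.ι x := (h.comm_iff _ _).2 hx
  have e2 := h.comm x
  have c1 : g * h.ι x * g⁻¹ * a = a * (g * h.ι x * g⁻¹) := by
    rw [← h1, show g * h.ι x * g⁻¹ * (g * z * g⁻¹) = g * (h.ι x * z) * g⁻¹ by group, e2]
    group
  have c2 : g * h.ι x * g⁻¹ * (a * z) = a * z * (g * h.ι x * g⁻¹) := by
    rw [← h2, show g * h.ι x * g⁻¹ * (g * a * g⁻¹) = g * (h.ι x * a) * g⁻¹ by group, e1]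
    group
  have c3 : g * h.ι x * g⁻¹ * z = z * (g * h.ι x * g⁻¹) := by
    calc g * h.ι x * g⁻¹ * z = a⁻¹ * (a * (g * h.ι x * g⁻¹)) * z := by group
      _ = a⁻¹ * (g * h.ι x * g⁻¹ * (a * z)) := by rw [← c1]; group
      _ = a⁻¹ * (a * z * (g * h.ι x * g⁻¹)) := by rw [c2]
      _ = z * (g * h.ι x * g⁻¹) := by group
  obtain ⟨y, hy, hye⟩ := h.lift (by rw [Invol.orderOf_conj]; exact h.ord x hx0) c3
  exact ⟨y, hy, hye, (h.comm_iff _ _).1 (by rw [hye]; exact c1)⟩

/-- In the first case the four-group is fused inside the centralizer of `b`. -/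
theorem fused_one (hI : IsConj z (h.ι M.cM)) : ∃ g : G, g * h.ι M.bM * g⁻¹ = h.ι M.bM ∧
    g * z * g⁻¹ = h.ι M.aM ∧ g * h.ι M.aM * g⁻¹ = h.ι M.aM * z := by
  obtain ⟨g, h1, h2⟩ := h.exists_cycle hna
  have hb3 := M.ty_rep.2.2.1
  obtain ⟨y, hy, hye, hya⟩ := h.cycle_image h1 h2 M.bM_aM (by omega)
  have hc : IsConj (h.ι M.bM) (h.ι y) := isConj_iff.2 ⟨g, hye.symm⟩
  have hy3 : M.ty y = 3 := by
    have := (h.class_one hna hI hy).2.1 hc
    simpa [M.bOne] using this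
  obtain ⟨t, ht, hte⟩ := M.trans_bM y hy3 hya
  have ta : (h.ι t)⁻¹ * h.ι M.aM * h.ι t = h.ι M.aM := by
    rw [mul_assoc, ← (h.comm_iff _ _).2 ht, inv_mul_cancel_left]
  have tz : (h.ι t)⁻¹ * z * h.ι t = z := by rw [mul_assoc, ← h.comm t, inv_mul_cancel_left]
  refine ⟨(h.ι t)⁻¹ * g, ?_, ?_, ?_⟩
  · rw [show (h.ι t)⁻¹ * g * h.ι M.bM * ((h.ι t)⁻¹ * g)⁻¹ =
      (h.ι t)⁻¹ * (g * h.ι M.bM * g⁻¹) * h.ι t by group, ← hye, ← hte, map_mul, map_mul, map_inv]
    group
  · rw [show (h.ι t)⁻¹ * g * z * ((h.ι t)⁻¹ * g)⁻¹ = (h.ι t)⁻¹ * (g * z * g⁻¹) * h.ι t by group,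
      h1, ta]
  · rw [show (h.ι t)⁻¹ * g * h.ι M.aM * ((h.ι t)⁻¹ * g)⁻¹ =
        (h.ι t)⁻¹ * (g * h.ι M.aM * g⁻¹) * h.ι t by group, h2,
      show (h.ι t)⁻¹ * (h.ι M.aM * z) * h.ι t =
        ((h.ι t)⁻¹ * h.ι M.aM * h.ι t) * ((h.ι t)⁻¹ * z * h.ι t) by group, ta, tz]

/-- In the second case no element fixing `b` permutes the four-group cyclically. -/
theorem not_fused_two (hII : IsConj (h.ι M.bM) (h.ι M.cM)) {g : G}
    (hb : g * h.ι M.bM * g⁻¹ = h.ι M.bM) (h1 : g * z * g⁻¹ = h.ι M.aM)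
    (h2 : g * h.ι M.aM * g⁻¹ = h.ι M.aM * z) : False := by
  obtain ⟨-, hcomm, q, hq2, hqa, hqE⟩ := M.coset_A
  obtain ⟨y, hy, hye, hya⟩ := h.cycle_image h1 h2 hqa (by omega)
  have hc : IsConj z (h.ι y) :=
    ((h.class_two hna hII (x := q) (by omega)).1.2 (by simp [M.zTwo, hq2])).trans
      (isConj_iff.2 ⟨g, hye.symm⟩)
  have hy12 : M.ty y = 1 ∨ M.ty y = 2 := by simpa [M.zTwo] using (h.class_two hna hII hy).1.1 hc
  have hback : ∀ w : M, g * h.ι w * g⁻¹ = h.ι y → h.ι w = h.ι q := fun w hw => by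
    rw [hye] at hw
    exact mul_left_cancel (mul_right_cancel hw)
  have hnE : M.inE y = false := by
    by_contra hE
    simp only [Bool.not_eq_false, M.inE, decide_eq_true_eq] at hE
    have haz : M.aM * M.zM ≠ 1 := fun e => ((M.ty_spec _).1.1 (by rw [M.ty_rep.2.2.2.2]; norm_num)).2 e
    rcases hE with e | e | e | e
    · rw [e] at hy; exact ((M.ty_spec 1).1.1 hy).2 rfl
    · have e' := h.inj (hback (M.aM * M.zM) (by
        rw [e, h.ι_az, h.ι_z, show g * (h.ι M.aM * z) * g⁻¹ =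
          (g * h.ι M.aM * g⁻¹) * (g * z * g⁻¹) by group, h1, h2, mul_assoc, ← h.za, ← mul_assoc,
          Invol.mul_self_eq_one (h.ord M.aM (by rw [M.ty_rep.2.1]; norm_num)), one_mul]))
      rw [← e'] at hqE
      simp [M.inE] at hqE
    · have e' := h.inj (hback M.zM (by rw [e, h.ι_z, h1]))
      rw [← e'] at hqE
      simp [M.inE] at hqE
    · have e' := h.inj (hback M.aM (by rw [e, h.ι_az, h2]))
      rw [← e'] at hqE
      simp [M.inE] at hqE
  rcases hy12 with e | e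
  · rw [M.ty_one y e] at hnE
    simp [M.inE] at hnE
  have k1 := congrArg h.ι (hcomm y e hya hnE)
  have k2 := congrArg h.ι (hcomm q hq2 hqa hqE)
  rw [map_mul, map_mul, map_mul, map_inv, map_inv, h.ι_z] at k1 k2
  rw [hye] at k1
  have k3 : h.ι M.bM * (g * h.ι q * g⁻¹) * (h.ι M.bM)⁻¹ * (g * h.ι q * g⁻¹)⁻¹ = g * z * g⁻¹ := by
    rw [← congrArg (fun t => g * t * g⁻¹) k2]
    conv_lhs => rw [← hb]
    group
  rw [k1, h1] at k3
  have := h.inj ((h.ι_z).trans k3)
  exact absurd this (by decide +kernel)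

/-- In the second case the central involution is fused with neither `a` nor `az` in the centralizer
of `b`. -/
theorem closed_two (hII : IsConj (h.ι M.bM) (h.ι M.cM)) {l : G}
    (hb : l * h.ι M.bM * l⁻¹ = h.ι M.bM) : l * z * l⁻¹ ≠ h.ι M.aM := by
  intro h1
  set a := h.ι M.aM
  have hbz : h.ι M.bM * z = z * h.ι M.bM := h.comm _
  -- the preimage of `z`
  have c0 : l⁻¹ * z * l * z = z * (l⁻¹ * z * l) := by
    have hza' : z * (l * z * l⁻¹) = (l * z * l⁻¹) * z := by rw [h1, h.za]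
    calc l⁻¹ * z * l * z = l⁻¹ * (z * (l * z * l⁻¹)) * l := by group
      _ = l⁻¹ * ((l * z * l⁻¹) * z) * l := by rw [hza']
      _ = z * (l⁻¹ * z * l) := by group
  obtain ⟨y, hy, hye⟩ := h.lift (g := l⁻¹ * z * l) (by
    simpa using (Invol.orderOf_conj l⁻¹ z).trans h.hz) c0
  have hyb : y * M.bM = M.bM * y := by
    refine (h.comm_iff _ _).1 ?_
    rw [hye]
    calc l⁻¹ * z * l * h.ι M.bM = l⁻¹ * (z * (l * h.ι M.bM * l⁻¹)) * l := by group
      _ = l⁻¹ * ((l * h.ι M.bM * l⁻¹) * z) * l := by rw [hb, hbz]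
      _ = h.ι M.bM * (l⁻¹ * z * l) := by group
  have hc : IsConj z (h.ι y) := isConj_iff.2 ⟨l⁻¹, by rw [hye]; group⟩
  have hyE : M.inE y = true := by
    rcases M.inv_W y hy hyb with e | e
    · exact e
    · have := (h.class_two hna hII hy).1.1 hc
      simp [M.zTwo, e] at this
  simp only [M.inE, decide_eq_true_eq] at hyE
  have hly : l * h.ι y * l⁻¹ = z := by rw [hye]; group
  have hlaz : ∀ v w : G, l * v * l⁻¹ = w → l * (v * z) * l⁻¹ = w * a := fun v w e => by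
    rw [show l * (v * z) * l⁻¹ = (l * v * l⁻¹) * (l * z * l⁻¹) by group, e, h1]
  have haa : a * a = 1 := Invol.mul_self_eq_one (h.ord M.aM (by rw [M.ty_rep.2.1]; norm_num))
  have hzz : z * z = 1 := Invol.mul_self_eq_one h.hz
  rcases hyE with e | e | e | e
  · rw [e] at hy; exact ((M.ty_spec 1).1.1 hy).2 rfl
  · rw [e, h.ι_z, h1] at hly
    have := h.inj (hly.trans h.ι_z.symm)
    exact absurd this (by decide +kernel)
  · rw [e] at hly
    obtain ⟨w, hwb, hwa⟩ := M.swap_W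
    have hwb' : h.ι w * h.ι M.bM * (h.ι w)⁻¹ = h.ι M.bM := by
      rw [(h.comm_iff _ _).2 hwb, mul_inv_cancel_right]
    have hwa' : h.ι w * a * (h.ι w)⁻¹ = a * z := by
      rw [← h.ι_az, ← hwa, map_mul, map_mul, map_inv]
    have hwz : h.ι w * z * (h.ι w)⁻¹ = z := by rw [h.comm w, mul_inv_cancel_right]
    refine h.not_fused_two hna hII (g := l * h.ι w) ?_ ?_ ?_
    · rw [show l * h.ι w * h.ι M.bM * (l * h.ι w)⁻¹ =
        l * (h.ι w * h.ι M.bM * (h.ι w)⁻¹) * l⁻¹ by group, hwb', hb]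
    · rw [show l * h.ι w * z * (l * h.ι w)⁻¹ = l * (h.ι w * z * (h.ι w)⁻¹) * l⁻¹ by group, hwz, h1]
    · rw [show l * h.ι w * a * (l * h.ι w)⁻¹ = l * (h.ι w * a * (h.ι w)⁻¹) * l⁻¹ by group, hwa',
        hlaz a z hly]
      exact h.za.symm
  · rw [e, h.ι_az] at hly
    refine h.not_fused_two hna hII hb h1 ?_
    have := hlaz _ _ hly
    rw [show h.ι M.aM * z * z = h.ι M.aM by rw [mul_assoc, hzz, mul_one]] at this
    rw [this]
    exact h.za.symm

end Emb

end Cfsg.Agent.M12Cent
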