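import Cfsg.Agent.M12Cent.Data
import Cfsg.Agent.Compute.Classes
import Cfsg.Agent.Compute.Mathieu

/-!
A computable model of the centralizer of a 2-central involution in the Mathieu group of degree
twelve (order 192), embedded in that group.
-/

set_option autoImplicit false

namespace Cfsg.Agent.M12Cent

open Cfsg Cfsg.Agent.Compute

/-- The product of two indices. -/
def mmul (i j : ℕ) : ℕ :=
  Nat.add (Nat.mul 24 (Nat.xor (i / 24)
      (getField 3 aTab (16 * (i % 24) + 2 * (j / 24) + getField 1 eTab (j % 24)))))
    (getField 5 sTab (24 * (i % 24) + j % 24))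

/-- The group of order 192. -/
structure M where
  v : Fin 192
  deriving DecidableEq

namespace M

/-- The underlying index. -/
def equivFin : M ≃ Fin 192 where
  toFun x := x.v
  invFun i := ⟨i⟩
  left_inv _ := rfl
  right_inv _ := rfl

instance : Fintype M := Fintype.ofEquiv _ equivFin.symm

theorem card : Nat.card M = 192 := by
  rw [Nat.card_congr equivFin]; simp

/-- The element with a given index. -/
def mk' (n : ℕ) : M := ⟨⟨n % 192, Nat.mod_lt _ (by norm_num)⟩⟩

instance : Mul M := ⟨fun x y => mk' (mmul x.v.1 y.v.1)⟩

instance : One M := ⟨mk' 0⟩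

instance : Inv M := ⟨fun x => mk' (getField 8 ivTab x.v.1)⟩

/-- The code of the image in the Mathieu group. -/
noncomputable def code (x : M) : ℕ := codeTab.getD x.v.1 rep24.one

theorem code_hom_check :
    allBelow 192 (fun i => allBelow 192 (fun j =>
      Nat.beq (codeTab.getD (mmul i j % 192) rep24.one)
        (rep24.mul (codeTab.getD i rep24.one) (codeTab.getD j rep24.one)))) = true ∧
    allBelow 192 (fun i => rep24.okb (codeTab.getD i rep24.one) &&
      (Nat.beq i 0 || !(idB (codeTab.getD i rep24.one))) &&
      Nat.beq (mmul (getField 8 ivTab i % 192) i % 192) 0) = true := by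
  decide +kernel

theorem code_ok (x : M) : rep24.Ok x.code := by
  have h := allBelow_eq_true.1 code_hom_check.2 x.v.1 x.v.2
  simp only [Bool.and_eq_true] at h
  exact rep24.okb_sound _ h.1.1

theorem code_mul (x y : M) : (x * y).code = rep24.mul x.code y.code := by
  have h := allBelow_eq_true.1 (allBelow_eq_true.1 code_hom_check.1 x.v.1 x.v.2) y.v.1 y.v.2
  exact Nat.eq_of_beq_eq_true h

/-- The image in the symmetric group. -/
noncomputable def img (x : M) : Equiv.Perm GolayPt := rep24.den x.code

theorem img_mul (x y : M) : img (x * y) = img x * img y := by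
  rw [img, code_mul, rep24.den_mul _ _ (code_ok x) (code_ok y)]; rfl

theorem img_eq_one {x : M} (h : img x = 1) : x = 1 := by
  have h' := allBelow_eq_true.1 code_hom_check.2 x.v.1 x.v.2
  simp only [Bool.and_eq_true, Bool.or_eq_true, Nat.beq_eq, Bool.not_eq_true'] at h'
  rcases h'.1.2 with h0 | h0
  · rcases x with ⟨⟨n, hn⟩⟩
    simp only at h0
    subst h0
    rfl
  · have := (idB_iff (code_ok x)).2 h
    rw [code] at this
    rw [this] at h0
    exact absurd h0 (by decide)

theorem inv_mul_self (x : M) : x⁻¹ * x = 1 := by
  have h' := allBelow_eq_true.1 code_hom_check.2 x.v.1 x.v.2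
  simp only [Bool.and_eq_true, Nat.beq_eq] at h'
  show mk' (mmul (getField 8 ivTab x.v.1 % 192) x.v.1) = mk' 0
  exact congrArg M.mk (Fin.ext (by simpa using h'.2))

theorem img_one : img 1 = 1 := by
  have h := img_mul 1 1
  have h1 : (1 : M) * 1 = 1 := by decide +kernel
  rw [h1] at h
  exact (mul_eq_left.1 h.symm)

theorem cancel_check :
    allBelow 192 (fun i => allBelow 192 (fun j =>
      Nat.beq (mmul j (mmul (getField 8 ivTab j % 192) i % 192) % 192) i &&
        Nat.beq (mmul i 0 % 192) i)) = true := by decide +kernel

theorem cancel (x y : M) : y * (y⁻¹ * x) = x ∧ x * 1 = x := by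
  have h := allBelow_eq_true.1 (allBelow_eq_true.1 cancel_check x.v.1 x.v.2) y.v.1 y.v.2
  simp only [Bool.and_eq_true, Nat.beq_eq] at h
  exact ⟨congrArg M.mk (Fin.ext h.1), congrArg M.mk (Fin.ext h.2)⟩

theorem img_injective : Function.Injective img := by
  intro x y h
  have hl : img (y⁻¹) * img y = 1 := by rw [← img_mul, inv_mul_self, img_one]
  have h1 : img (y⁻¹ * x) = 1 := by rw [img_mul, h, hl]
  have h2 := (cancel x y).1
  rw [img_eq_one h1, (cancel y y).2] at h2
  exact h2.symm

instance : Group M :=
  Group.ofLeftAxioms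
    (fun x y w => img_injective (by rw [img_mul, img_mul, img_mul, img_mul, mul_assoc]))
    (fun x => img_injective (by rw [img_mul, img_one, one_mul]))
    inv_mul_self

/-- The embedding. -/
noncomputable def imgHom : M →* Equiv.Perm GolayPt where
  toFun := img
  map_one' := img_one
  map_mul' := img_mul

end M

end Cfsg.Agent.M12Cent
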